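import Groth.Agent.Resolve.K73.ToricSm
import Groth.Agent.Resolve.K84.Tor

/-!
# Star subdivisions in the notation of `K84.Tor`

* `mult_star`, `exists_box`: multiplicities and existence of star subdivisions
* `Star.exists_chart`, `star_algebra`: the affine chart of the normalised blow-up of a monomial ideal
-/

set_option autoImplicit false

universe u

open AddMonoidAlgebra Function

namespace K73.Toric

/-! ### The chart with its universal property -/

section chart
variable {J P : Type} [AddCommGroup P] [Fintype J] [DecidableEq J] [Module.Finite ℤ P]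
  [Module.Free ℤ P] {v : J → P →+ ℤ} {w : P →+ ℤ} {d : ℕ} {n : J → ℕ} {c : J → ℤ} {N : ℕ}
  {a : J → P} {K : Type u} [Field K] {A : Type u} [CommRing A] [IsDomain A]

/-- **The chart of the normalised blow-up of a monomial ideal**, with its universal property. -/
theorem Star.exists_chart (h : Star v w d n c N a) (hv : mult v ≠ 0) {j : J} (hj : n j ≠ 0)
    (ψ : K[cone v] →+* A) (hψ : ψ.Smooth) :
    ∃ (T : Type u) (_ : CommRing T) (ι : A →+* T) (ψ' : K[cone (update v j w)] →+* T),
      IsDomain T ∧ IsIntegrallyClosed T ∧ Injective ι ∧ ψ'.Smooth ∧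
      ψ'.comp (incl K (h.cone_le j)) = ι.comp ψ ∧ ι.FiniteType ∧
      (∀ t, ∃ (m : ℕ) (s : A), ι (ψ (single ⟨a j, h.a_mem hj⟩ 1)) ^ m * t = ι s) ∧
      (∀ (S : Subring T), (∀ s, ι s ∈ S) →
        (∀ i (hi : n i ≠ 0), ψ' (single ⟨a i - a j, h.sub_mem hi hj⟩ 1) ∈ S) →
        ∀ t : T, IsIntegral S t) ∧
      ∀ {B : Type u} [CommRing B] [IsDomain B] [IsIntegrallyClosed B] (g : A →+* B), Injective g →
        (∀ i (hi : n i ≠ 0), g (ψ (single ⟨a j, h.a_mem hj⟩ 1)) ∣ g (ψ (single ⟨a i, h.a_mem hi⟩ 1))) →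
        ∃! G : T →+* B, G.comp ι = g := by
  classical
  let _ : Algebra K[cone v] A := ψ.toAlgebra
  let _ : Algebra K[cone v] K[cone (update v j w)] := (incl K (h.cone_le j)).toAlgebra
  have halg : algebraMap K[cone v] K[cone (update v j w)] = incl K (h.cone_le j) := rfl
  have hsm : Algebra.Smooth K[cone v] A := hψ
  let T := TensorProduct K[cone v] A K[cone (update v j w)]
  let _ : Algebra K[cone (update v j w)] T := Algebra.TensorProduct.rightAlgebra
  have hpo : Algebra.IsPushout K[cone v] A K[cone (update v j w)] T := inferInstance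
  obtain ⟨hdom, hic⟩ := h.isDomain_isIntegrallyClosed (R := A) (T := T) hj halg
  have hinj : Injective (algebraMap A T) := algebraMap_injective_of_flat (hpo := hpo) halg
  have hsm' : Algebra.Smooth K[cone (update v j w)] T := smooth_pushout (hpo := hpo)
  have hx0 : algebraMap A T (mon K A (a j) (h.a_mem hj)) ∈ nonZeroDivisors T :=
    h.mon_mem_nonZeroDivisors' hj halg
  have hxA : mon K A (a j) (h.a_mem hj) ≠ 0 := fun h0 => by
    rw [h0, map_zero] at hx0
    exact nonZeroDivisors.ne_zero hx0 rfl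
  let L := Localization.Away (algebraMap A T (mon K A (a j) (h.a_mem hj)))
  have hL : IsLocalization.Away (mon K A (a j) (h.a_mem hj)) L :=
    h.isLocalization_away (R := A) (T := T) hj halg L
  have hTL : Injective (algebraMap T L) := IsLocalization.injective L (Submonoid.powers_le.2 hx0)
  have hint : ∀ (S : Subring T), (∀ s, algebraMap A T s ∈ S) →
      (∀ i (hi : n i ≠ 0), mon K T (a i - a j) (h.sub_mem hi hj) ∈ S) → ∀ t : T, IsIntegral S t :=
    fun S hS hS' t => (h.isIntegral (R := A) (T := T) hj halg S hS hS').isIntegral t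
  have hpow : ∀ t : T, ∃ (m : ℕ) (s : A),
      algebraMap A T (mon K A (a j) (h.a_mem hj)) ^ m * t = algebraMap A T s := fun t => by
    obtain ⟨m, s, hs⟩ := IsLocalization.Away.surj (mon K A (a j) (h.a_mem hj)) (algebraMap T L t)
    refine ⟨m, s, hTL ?_⟩
    rw [map_mul, map_pow, ← IsScalarTower.algebraMap_apply, ← IsScalarTower.algebraMap_apply,
      mul_comm, ← map_pow]
    rw [map_pow]
    exact hs
  refine ⟨T, inferInstance, algebraMap A T, algebraMap K[cone (update v j w)] T, hdom, hic, hinj,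
    hsm', ?_, ?_, hpow, hint, ?_⟩
  · rw [← halg, ← IsScalarTower.algebraMap_eq, IsScalarTower.algebraMap_eq K[cone v] A T]
    rfl
  · -- finite type
    have h2 : mult (update v j w) ≠ 0 := mult_update_ne_zero h.hd hj h.hw hv
    have h3 : Algebra.FiniteType K K[cone (update v j w)] := finiteType_cone K h2
    have h4 : IsScalarTower K K[cone v] K[cone (update v j w)] :=
      IsScalarTower.of_algebraMap_eq fun k => by
        rw [halg]
        change single 0 k = incl K (h.cone_le j) (single 0 k)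
        rw [incl, mapDomainRingHom_apply, mapDomain_single, map_zero]
    have h5 : Algebra.FiniteType K[cone v] K[cone (update v j w)] :=
      Algebra.FiniteType.of_restrictScalars_finiteType K _ _
    have h6 : Algebra.FiniteType A T :=
      Algebra.FiniteType.baseChange (R := K[cone v]) (A := K[cone (update v j w)]) A
    exact (RingHom.finiteType_algebraMap (A := A) (B := T)).2 h6
  · intro B _ _ _ g hg hdiv
    let F := FractionRing B
    have hgx : g (mon K A (a j) (h.a_mem hj)) ≠ 0 := fun h0 => hxA (hg (by rw [h0, map_zero]))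
    have hu : IsUnit (((algebraMap B F).comp g) (mon K A (a j) (h.a_mem hj))) := by
      apply IsUnit.mk0
      rw [RingHom.comp_apply]
      exact fun h0 => hgx (IsFractionRing.injective B F (by rw [h0, map_zero]))
    let G0 : L →+* F := IsLocalization.Away.lift (mon K A (a j) (h.a_mem hj)) hu
    have hG0 : ∀ s : A, G0 (algebraMap A L s) = algebraMap B F (g s) := fun s =>
      IsLocalization.Away.lift_eq _ hu s
    let G1 : T →+* F := G0.comp (algebraMap T L)
    have hG1 : ∀ s : A, G1 (algebraMap A T s) = algebraMap B F (g s) := fun s => by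
      change G0 (algebraMap T L (algebraMap A T s)) = _
      rw [← IsScalarTower.algebraMap_apply, hG0]
    -- the image lies in `B`
    have hB : ∀ t : T, ∃ b : B, algebraMap B F b = G1 t := by
      intro t
      let S : Subring T := (algebraMap B F).range.comap G1
      have h1 : IsIntegral S t := by
        refine hint S (fun s => ⟨g s, (hG1 s).symm⟩) (fun i hi => ?_) t
        obtain ⟨b, hb⟩ := hdiv i hi
        refine ⟨b, ?_⟩
        have h2 := h.mon_eq_mul (R := A) (T := T) hj halg hi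
        have h3 := congrArg G1 h2
        rw [hG1, map_mul, hG1] at h3
        have h4 : g (mon K A (a i) (h.a_mem hi)) = g (mon K A (a j) (h.a_mem hj)) * b := hb
        rw [h4, map_mul] at h3
        exact mul_left_cancel₀ (fun h0 => hgx (IsFractionRing.injective B F (by
          rw [h0, map_zero]))) h3
      have h2 : IsIntegral B (G1 t) := by
        obtain ⟨p, hp, hpt⟩ := h1
        -- lift the polynomial to `B`
        let f : S →+* (algebraMap B F).range := (G1.comp S.subtype).codRestrict _ fun s => s.2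
        have h3 : (p.map f).Monic := hp.map f
        have h4 : ∃ p' : Polynomial B, p'.map (algebraMap B F).rangeRestrict = p.map f ∧
            p'.degree = (p.map f).degree ∧ p'.Monic :=
          Polynomial.lifts_and_degree_eq_and_monic
            ((Polynomial.lifts_iff_coeff_lifts _).2 fun k =>
              (algebraMap B F).rangeRestrict_surjective _) h3
        obtain ⟨p', hp', -, hmon⟩ := h4
        refine ⟨p', hmon, ?_⟩
        have h5 : Polynomial.eval₂ ((algebraMap B F).range.subtype) (G1 t)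
            (p'.map (algebraMap B F).rangeRestrict) = 0 := by
          rw [hp', Polynomial.eval₂_map]
          have h6 : ((algebraMap B F).range.subtype).comp f = G1.comp (algebraMap S T) := rfl
          rw [h6, ← Polynomial.hom_eval₂, hpt, map_zero]
        rw [Polynomial.eval₂_map] at h5
        exact h5
      exact IsIntegrallyClosed.isIntegral_iff.1 h2
    choose b hb using hB
    let G : T →+* B :=
      { toFun := b
        map_one' := IsFractionRing.injective B F (by rw [hb, map_one, map_one])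
        map_mul' := fun x y => IsFractionRing.injective B F (by rw [hb, map_mul, map_mul, hb, hb])
        map_zero' := IsFractionRing.injective B F (by rw [hb, map_zero, map_zero])
        map_add' := fun x y => IsFractionRing.injective B F (by rw [hb, map_add, map_add, hb, hb]) }
    refine ⟨G, ?_, ?_⟩
    · ext s
      apply IsFractionRing.injective B F
      rw [RingHom.comp_apply]
      change algebraMap B F (b _) = _
      rw [hb, hG1]
    · intro G' hG'
      refine RingHom.ext fun t => ?_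
      obtain ⟨m, s, hs⟩ := hpow t
      have h1 : ∀ (G₁ : T →+* B), G₁.comp (algebraMap A T) = g →
          g (mon K A (a j) (h.a_mem hj)) ^ m * G₁ t = g s := fun G₁ hG₁ => by
        have h2 : ∀ s, G₁ (algebraMap A T s) = g s := fun s => DFunLike.congr_fun hG₁ s
        rw [← h2, ← h2, ← map_pow, ← map_mul, hs]
      have hGG : G.comp (algebraMap A T) = g := by
        ext s
        apply IsFractionRing.injective B F
        rw [RingHom.comp_apply]
        change algebraMap B F (b _) = _
        rw [hb, hG1]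
      exact mul_left_cancel₀ (pow_ne_zero m hgx) ((h1 G' hG').trans (h1 G hGG).symm)

end chart

/-! ### The same in the notation of `K84.Tor` -/

section bridge

open K84.Tor (Box Dat)

variable {I P : Type} [AddCommGroup P]

theorem tor_mult_eq (v : I → P →+ ℤ) : K84.Tor.mult v = mult v := rfl

theorem Dat.dual {v : I → P →+ ℤ} (D : K84.Tor.Dat v) : Dual v D.q :=
  ⟨D.pos, fun i l h => D.ne i l h⟩

/-- the multiplicity of a chart is nonzero -/
theorem tor_mult_ne_zero [Finite I] {v : I → P →+ ℤ} (D : K84.Tor.Dat v) : K84.Tor.mult v ≠ 0 :=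
  (Dat.dual D).mult_ne_zero

variable [Fintype I]

/-- clearing denominators -/
theorem Box.exists_nat {v : I → P →+ ℤ} {a : I → ℚ} {w : P →+ ℤ} (h : K84.Tor.Box v a w) :
    ∃ (d : ℕ) (n : I → ℕ), d ≠ 0 ∧ d • w = ∑ i, n i • v i ∧ (∀ i, (n i : ℚ) = d * a i) := by
  classical
  let d : ℕ := ∏ i, (a i).den
  have hd : d ≠ 0 := Finset.prod_ne_zero_iff.2 fun i _ => (a i).den_nz
  let n : I → ℕ := fun i => d / (a i).den * (a i).num.toNat
  have hn : ∀ i, (n i : ℚ) = d * a i := fun i => by
    have h1 : (a i).den ∣ d := Finset.dvd_prod_of_mem _ (Finset.mem_univ i)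
    have h2 : (((a i).num.toNat : ℤ) : ℚ) = ((a i).num : ℚ) := by
      rw [Int.toNat_of_nonneg (Rat.num_nonneg.2 (h.nonneg i))]
    have h3 : ((a i).den : ℚ) ≠ 0 := by exact_mod_cast (a i).den_nz
    have h4 : a i = (a i).num / (a i).den := (Rat.num_div_den (a i)).symm
    simp only [n]
    rw [Nat.cast_mul, Nat.cast_div h1 h3]
    have h5 : (((a i).num.toNat : ℕ) : ℚ) = ((a i).num : ℚ) := by rw [← h2]; norm_cast
    rw [h5]
    conv_rhs => rw [h4]
    ring
  refine ⟨d, n, hd, ?_, hn⟩
  ext p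
  have h1 : ((d • w) p : ℚ) = ((∑ i, n i • v i) p : ℤ) := by
    simp only [AddMonoidHom.smul_apply, AddMonoidHom.finsetSum_apply, nsmul_eq_mul]
    push_cast
    rw [h.eq p, Finset.mul_sum]
    refine Finset.sum_congr rfl fun i _ => ?_
    rw [hn i]; ring
  exact_mod_cast h1

/-- **T5**: the multiplicity of a star subdivision -/
theorem mult_star [DecidableEq I] {v : I → P →+ ℤ} {a : I → ℚ} {w : P →+ ℤ}
    (h : K84.Tor.Box v a w) {j : I} (hj : 0 < a j) :
    (K84.Tor.mult (update v j w) : ℚ) = a j * K84.Tor.mult v := by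
  obtain ⟨d, n, hd, hw, hn⟩ := Box.exists_nat h
  have hd' : (d : ℚ) ≠ 0 := by exact_mod_cast hd
  have hnj : n j ≠ 0 := fun h0 => by
    have h1 := hn j
    rw [h0, Nat.cast_zero] at h1
    exact (mul_ne_zero hd' hj.ne') h1.symm
  have h1 := mult_update v w hd n hnj hw
  have h2 : (d : ℚ) * mult (update v j w) = n j * mult v := by exact_mod_cast h1
  rw [hn j, mul_assoc] at h2
  exact mul_left_cancel₀ hd' h2

theorem mult_star_lt [DecidableEq I] {v : I → P →+ ℤ} {a : I → ℚ} {w : P →+ ℤ}
    (h : K84.Tor.Box v a w) {j : I} (hj : 0 < a j) (hv : K84.Tor.mult v ≠ 0) :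
    K84.Tor.mult (update v j w) < K84.Tor.mult v := by
  have h1 := mult_star h hj
  have h2 : (0 : ℚ) < K84.Tor.mult v := by exact_mod_cast Nat.pos_of_ne_zero hv
  have h3 : (K84.Tor.mult (update v j w) : ℚ) < K84.Tor.mult v := by
    rw [h1]; exact mul_lt_of_lt_one_left h2 (h.lt_one j)
  exact_mod_cast h3

/-- **T6**: existence of a star subdivision -/
theorem exists_box {v : I → P →+ ℤ} (hv : K84.Tor.mult v ≠ 0) (h : K84.Tor.mult v ≠ 1) :
    ∃ (a : I → ℚ) (w : P →+ ℤ), K84.Tor.Box v a w := by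
  obtain ⟨w, d, n, hw, hdw, hn, i, hi⟩ := exists_star (v := v) hv h
  have hd : d ≠ 0 := by have := hn i; omega
  have hd' : (d : ℚ) ≠ 0 := by exact_mod_cast hd
  have hdp : (0 : ℚ) < d := by exact_mod_cast Nat.pos_of_ne_zero hd
  refine ⟨fun i => n i / d, w, fun i => by positivity, fun i => ?_, fun p => ?_, hw⟩
  · rw [div_lt_one hdp]; exact_mod_cast hn i
  · have h1 := DFunLike.congr_fun hdw p
    simp only [AddMonoidHom.smul_apply, AddMonoidHom.finsetSum_apply, nsmul_eq_mul] at h1
    have h2 : (d : ℚ) * w p = ∑ i, (n i : ℚ) * v i p := by exact_mod_cast h1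
    have h3 : ∑ i, (n i : ℚ) / d * (v i p : ℚ) = (∑ i, (n i : ℚ) * v i p) / d := by
      rw [Finset.sum_div]
      exact Finset.sum_congr rfl fun i _ => by ring
    rw [h3, ← h2]
    field_simp

/-- the values of `w` on the dual vectors -/
theorem Box.w_dual {v : I → P →+ ℤ} {a : I → ℚ} {w : P →+ ℤ} (h : K84.Tor.Box v a w) {q : I → P}
    (hq : Dual v q) (i : I) : (w (q i) : ℚ) = a i * v i (q i) := by
  rw [h.eq, Finset.sum_eq_single i]
  · intro l _ hl; rw [hq.ne i l hl]; simp
  · intro h; exact absurd (Finset.mem_univ i) h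

/-- the data of a star subdivision from a `Box` -/
theorem exists_star_of_box {v : I → P →+ ℤ} {a : I → ℚ} {w : P →+ ℤ} (h : K84.Tor.Box v a w)
    {q : I → P} (hq : Dual v q) (e : I → ℕ) {c0 : ℕ} (hc0 : 0 < c0)
    (he : ∀ i, 0 < a i → (e i : ℤ) * w (q i) = c0) :
    ∃ (d : ℕ) (n : I → ℕ), (∀ i, n i ≠ 0 ↔ 0 < a i) ∧
      Star v w d n (fun i => e i * v i (q i)) (d * c0) (fun i => e i • q i) := by
  obtain ⟨d, n, hd, hw, hn⟩ := Box.exists_nat h
  have hd' : (0 : ℚ) < d := by exact_mod_cast Nat.pos_of_ne_zero hd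
  have hna : ∀ i, n i ≠ 0 ↔ 0 < a i := fun i => by
    constructor
    · intro h1
      refine lt_of_le_of_ne (h.nonneg i) fun h2 => h1 ?_
      have := hn i
      rw [← h2, mul_zero] at this
      exact_mod_cast this
    · intro h1 h2
      have := hn i
      rw [h2, Nat.cast_zero] at this
      exact (mul_pos hd' h1).ne this
  refine ⟨d, n, hna, hd, hw, fun i _ => ?_, fun i _ l hl => ?_, fun i hi => ?_,
    Nat.mul_pos (Nat.pos_of_ne_zero hd) hc0⟩
  · rw [map_nsmul, nsmul_eq_mul]
  · rw [map_nsmul, hq.ne i l hl, smul_zero]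
  · have h1 : ((e i : ℤ) * w (q i) : ℚ) = c0 := by exact_mod_cast he i ((hna i).1 hi)
    rw [Box.w_dual h hq i] at h1
    have h2 : ((n i : ℚ) * ((e i : ℤ) * (v i (q i) : ℚ))) = d * c0 := by
      rw [hn i, ← h1]; push_cast; ring
    exact_mod_cast h2

/-- **The star chart**: everything about the ring `T` of the chart `j` of the star subdivision of `A` (a domain
smooth over `K[cone v]`). -/
structure StarChart (K : Type u) [Field K] [DecidableEq I] {v : I → P →+ ℤ} (D : K84.Tor.Dat v)
    (a : I → ℚ) (w : P →+ ℤ) (e : I → ℕ) (j : I) {A : Type u} [CommRing A]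
    (ψ : K84.Tor.Alg K v →+* A) where
  cone_le : K84.Tor.cone v ≤ K84.Tor.cone (update v j w)
  D' : K84.Tor.Dat (update v j w)
  q_self : D'.q j = e j • D.q j
  q_pos : ∀ i, i ≠ j → 0 < a i → D'.q i = e i • D.q i - e j • D.q j
  q_zero : ∀ i, a i = 0 → D'.q i = D.q i
  T : Type u
  [commRing : CommRing T]
  isDomain : IsDomain T
  isIntegrallyClosed : IsIntegrallyClosed T
  ι : A →+* T
  ι_inj : Injective ι
  ι_ft : ι.FiniteType
  ψ' : K84.Tor.Alg K (update v j w) →+* T
  smooth : ψ'.Smooth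
  comp : ψ'.comp (K84.Tor.incl K cone_le) = ι.comp ψ
  mon_self : ψ' (K84.Tor.mon K (D'.mem j)) = ι (ψ (K84.Tor.mon K (D.mem j)) ^ e j)
  mon_pos : ∀ i, i ≠ j → 0 < a i → ι (ψ (K84.Tor.mon K (D.mem i)) ^ e i) =
    ι (ψ (K84.Tor.mon K (D.mem j)) ^ e j) * ψ' (K84.Tor.mon K (D'.mem i))
  mon_zero : ∀ i, a i = 0 → ψ' (K84.Tor.mon K (D'.mem i)) = ι (ψ (K84.Tor.mon K (D.mem i)))
  /-- `T` is contained in `A[1 / x_j ^ (e j)]` -/
  pow : ∀ t, ∃ (m : ℕ) (s : A), ι (ψ (K84.Tor.mon K (D.mem j)) ^ e j) ^ m * t = ι s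
  /-- `T` is integral over `A[x_i ^ (e i) / x_j ^ (e j)]` -/
  int : ∀ (S : Subring T), (∀ s, ι s ∈ S) →
    (∀ i, i ≠ j → 0 < a i → ψ' (K84.Tor.mon K (D'.mem i)) ∈ S) → ∀ t : T, IsIntegral S t
  /-- universal property -/
  lift : ∀ {B : Type u} [CommRing B] [IsDomain B] [IsIntegrallyClosed B] (g : A →+* B),
    Injective g → (∀ i, 0 < a i → g (ψ (K84.Tor.mon K (D.mem j)) ^ e j) ∣
      g (ψ (K84.Tor.mon K (D.mem i)) ^ e i)) → ∃! G : T →+* B, G.comp ι = g
  mult_lt : K84.Tor.mult (update v j w) < K84.Tor.mult v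

attribute [instance] StarChart.commRing StarChart.isDomain StarChart.isIntegrallyClosed

omit [Fintype I] in
lemma single_pow_eq {K : Type u} [Field K] {v : I → P →+ ℤ} {A : Type u} [CommRing A]
    (ψ : K[cone v] →+* A) {q : P} (hq : q ∈ cone v) (e : ℕ) (he : e • q ∈ cone v) :
    ψ (single ⟨e • q, he⟩ 1) = ψ (single ⟨q, hq⟩ 1) ^ e := by
  rw [← map_pow, single_pow, one_pow]
  rfl

/-- **Existence of star charts.** -/
theorem nonempty_starChart (K : Type u) [Field K] [DecidableEq I] [Module.Finite ℤ P]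
    [Module.Free ℤ P] {v : I → P →+ ℤ} (D : K84.Tor.Dat v) {a : I → ℚ} {w : P →+ ℤ}
    (h : K84.Tor.Box v a w) (e : I → ℕ) {c0 : ℕ} (hc0 : 0 < c0)
    (he : ∀ i, 0 < a i → (e i : ℤ) * w (D.q i) = c0) {j : I} (hj : 0 < a j) {A : Type u}
    [CommRing A] [IsDomain A] (ψ : K84.Tor.Alg K v →+* A) (hψ : ψ.Smooth) :
    Nonempty (StarChart K D a w e j ψ) := by
  have hq := Dat.dual D
  have hv : mult v ≠ 0 := hq.mult_ne_zero
  obtain ⟨d, n, hn, hS⟩ := exists_star_of_box h hq e hc0 he
  have hnj : n j ≠ 0 := (hn j).2 hj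
  have ha0 : ∀ i, n i = 0 ↔ a i = 0 := fun i => by
    constructor
    · intro h1
      by_contra h2
      exact (hn i).2 (lt_of_le_of_ne (h.nonneg i) (Ne.symm h2)) h1
    · intro h1
      by_contra h2
      exact ((hn i).1 h2).ne' h1
  have hdual := hS.dual hnj hq
  let D' : K84.Tor.Dat (update v j w) :=
    { q := fun i => if i = j then e j • D.q j else if n i = 0 then D.q i else e i • D.q i - e j • D.q j
      pos := hdual.pos
      ne := fun i l hl => hdual.ne i l hl
      onto := fun i => by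
        by_cases hi : i = j
        · subst hi; rw [update_self]; exact h.onto
        · rw [update_of_ne hi]; exact D.onto i }
  have hq1 : D'.q j = e j • D.q j := if_pos rfl
  have hq2 : ∀ i, i ≠ j → 0 < a i → D'.q i = e i • D.q i - e j • D.q j := fun i hi hai => by
    change (if i = j then _ else _) = _
    rw [if_neg hi, if_neg ((hn i).2 hai)]
  have hq3 : ∀ i, a i = 0 → D'.q i = D.q i := fun i hi => by
    have hij : i ≠ j := fun h' => hj.ne' (h' ▸ hi)
    change (if i = j then _ else _) = _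
    rw [if_neg hij, if_pos ((ha0 i).2 hi)]
  obtain ⟨T, hT, ι, ψ', h1, h2, h3, h4, h5, h6, h7, h8, h9⟩ := hS.exists_chart hv hnj ψ hψ
  have hmonle : ∀ (q : P) (hq : q ∈ cone v), ψ' (single ⟨q, hS.cone_le j hq⟩ 1) =
      ι (ψ (single ⟨q, hq⟩ 1)) := fun q hq => by
    have := DFunLike.congr_fun h5 (single ⟨q, hq⟩ 1)
    rw [RingHom.comp_apply, incl, mapDomainRingHom_apply, mapDomain_single] at this
    exact this
  have hcongr : ∀ (q q' : P) (hq : q ∈ cone (update v j w)) (hqq : q = q')
      (hq' : q' ∈ cone (update v j w)), ψ' (single ⟨q, hq⟩ 1) = ψ' (single ⟨q', hq'⟩ 1) :=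
    fun q q' hq hqq hq' => by subst hqq; rfl
  have hpow : ∀ i (hi : n i ≠ 0), ψ (single ⟨e i • D.q i, hS.a_mem hi⟩ 1) =
      ψ (single ⟨D.q i, hq.mem i⟩ 1) ^ e i := fun i hi => single_pow_eq ψ (hq.mem i) _ _
  refine ⟨⟨hS.cone_le j, D', hq1, hq2, hq3, T, h1, h2, ι, h3, h6, ψ', h4, h5, ?_, ?_, ?_, ?_, ?_, ?_,
    mult_star_lt h hj hv⟩⟩
  · change ψ' (single ⟨D'.q j, _⟩ 1) = ι (ψ (single ⟨D.q j, hq.mem j⟩ 1) ^ e j)
    rw [← hpow j hnj, ← hmonle]
    exact hcongr _ _ _ hq1 _
  · intro i hi hai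
    change ι (ψ (single ⟨D.q i, hq.mem i⟩ 1) ^ e i) =
      ι (ψ (single ⟨D.q j, hq.mem j⟩ 1) ^ e j) * ψ' (single ⟨D'.q i, _⟩ 1)
    rw [← hpow j hnj, ← hpow i ((hn i).2 hai), ← hmonle, ← hmonle, ← map_mul, single_mul_single,
      one_mul]
    refine hcongr _ _ _ ?_ _
    change _ = e j • D.q j + D'.q i
    rw [hq2 i hi hai]; abel
  · intro i hi
    change ψ' (single ⟨D'.q i, _⟩ 1) = ι (ψ (single ⟨D.q i, hq.mem i⟩ 1))
    rw [← hmonle]
    exact hcongr _ _ _ (hq3 i hi) _
  · intro t
    obtain ⟨m, s, hs⟩ := h7 t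
    refine ⟨m, s, ?_⟩
    have hs' : ι (ψ (single ⟨e j • D.q j, hS.a_mem hnj⟩ 1)) ^ m * t = ι s := hs
    rw [hpow j hnj] at hs'
    exact hs'
  · intro S hS1 hS2 t
    refine h8 S hS1 (fun i hi => ?_) t
    by_cases hij : i = j
    · subst hij
      rw [hcongr _ 0 _ (sub_self _) (AddSubmonoid.zero_mem _)]
      have : ψ' (single ⟨0, AddSubmonoid.zero_mem _⟩ 1) = 1 := map_one ψ'
      rw [this]; exact S.one_mem
    · have := hS2 i hij ((hn i).1 hi)
      have h10 : ψ' (single ⟨D'.q i, hdual.mem i⟩ 1) ∈ S := this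
      rwa [hcongr _ _ _ (hq2 i hij ((hn i).1 hi)) (hS.sub_mem hi hnj)] at h10
  · intro B _ _ _ g hg hdiv
    refine h9 g hg fun i hi => ?_
    have h10 : g (ψ (single ⟨e j • D.q j, hS.a_mem hnj⟩ 1)) ∣
        g (ψ (single ⟨e i • D.q i, hS.a_mem hi⟩ 1)) := by
      rw [hpow j hnj, hpow i hi]
      exact hdiv i ((hn i).1 hi)
    exact h10

end bridge

end K73.Toric
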