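import Mathlib.RingTheory.GradedAlgebra.Basic
import Mathlib.RingTheory.AdjoinRoot
import Mathlib.LinearAlgebra.Charpoly.Basic
import Mathlib.Algebra.Polynomial.Derivative
import Mathlib.RingTheory.MvPolynomial.Homogeneous
/-!
# Belyi's trick over a graded ring
-/

set_option autoImplicit false
universe u v w
open Polynomial

namespace K73.Belyi

variable {K : Type u} {S : Type v} [CommRing K] [CommRing S] [Algebra K S]
  (𝒜 : ℕ → Submodule K S) [GradedAlgebra 𝒜]

/-- The homogeneous component of degree `k` of `p : S[X]`, `X` having weight `w`. -/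
noncomputable def comp (w k : ℕ) (p : S[X]) : S[X] :=
  ∑ i ∈ p.support, if i * w ≤ k then C (GradedRing.proj 𝒜 (k - i * w) (p.coeff i)) * X ^ i else 0

theorem coeff_comp (w k : ℕ) (p : S[X]) (n : ℕ) :
    (comp 𝒜 w k p).coeff n =
      if n * w ≤ k then GradedRing.proj 𝒜 (k - n * w) (p.coeff n) else 0 := by
  rw [comp, finsetSum_coeff]
  have h : ∀ i ∈ p.support, (if i * w ≤ k then
      C (GradedRing.proj 𝒜 (k - i * w) (p.coeff i)) * X ^ i else 0 : S[X]).coeff n =
      if i = n then (if n * w ≤ k then GradedRing.proj 𝒜 (k - n * w) (p.coeff n) else 0) else 0 := by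
    intro i _
    by_cases hi : i = n
    · subst hi
      by_cases h2 : i * w ≤ k
      · simp [h2]
      · simp [h2]
    · by_cases h2 : i * w ≤ k
      · simp [h2, hi, coeff_X_pow, Ne.symm hi]
      · simp [h2, hi]
  rw [Finset.sum_congr rfl h, Finset.sum_ite_eq']
  by_cases hn : n ∈ p.support
  · simp [hn]
  · rw [if_neg hn]
    rw [mem_support_iff, not_not] at hn
    simp [hn]

/-- `p : S[X]` is homogeneous of degree `k`, `X` having weight `w`. -/
def WH (w k : ℕ) (p : S[X]) : Prop := comp 𝒜 w k p = p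

theorem wh_iff {w k : ℕ} {p : S[X]} : WH 𝒜 w k p ↔
    ∀ n, (n * w ≤ k → p.coeff n ∈ 𝒜 (k - n * w)) ∧ (k < n * w → p.coeff n = 0) := by
  rw [WH, Polynomial.ext_iff]
  refine forall_congr' fun n => ?_
  rw [coeff_comp]
  by_cases h : n * w ≤ k
  · rw [if_pos h]
    constructor
    · intro h2
      refine ⟨fun _ => ?_, fun h3 => absurd h3 (not_lt.2 h)⟩
      rw [← h2]
      exact (DirectSum.decompose 𝒜 (p.coeff n) (k - n * w)).2
    · intro h2
      exact DirectSum.decompose_of_mem_same 𝒜 (h2.1 h)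
  · rw [if_neg h]
    constructor
    · intro h2
      exact ⟨fun h3 => absurd h3 h, fun _ => h2.symm⟩
    · intro h2
      exact (h2.2 (not_le.1 h)).symm

theorem comp_add (w k : ℕ) (p q : S[X]) : comp 𝒜 w k (p + q) = comp 𝒜 w k p + comp 𝒜 w k q := by
  ext n
  rw [coeff_add, coeff_comp, coeff_comp, coeff_comp, coeff_add]
  split_ifs with h
  · rw [map_add]
  · rw [add_zero]

theorem comp_zero (w k : ℕ) : comp 𝒜 w k (0 : S[X]) = 0 := by
  ext n; rw [coeff_comp]; simp

theorem comp_sum {ι : Type*} (s : Finset ι) (f : ι → S[X]) (w k : ℕ) :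
    comp 𝒜 w k (∑ i ∈ s, f i) = ∑ i ∈ s, comp 𝒜 w k (f i) := by
  classical
  induction s using Finset.induction with
  | empty => simp [comp_zero]
  | insert a s ha ih => rw [Finset.sum_insert ha, Finset.sum_insert ha, comp_add, ih]

/-- Components of a product with a homogeneous polynomial. -/
theorem comp_mul {w a : ℕ} {q : S[X]} (hq : WH 𝒜 w a q) (k : ℕ) (p : S[X]) :
    comp 𝒜 w (k + a) (p * q) = comp 𝒜 w k p * q := by
  rw [wh_iff] at hq
  ext n
  rw [coeff_comp, coeff_mul, coeff_mul]
  have key : ∀ x ∈ Finset.antidiagonal n,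
      (if n * w ≤ k + a then GradedRing.proj 𝒜 (k + a - n * w) (p.coeff x.1 * q.coeff x.2) else 0) =
      (comp 𝒜 w k p).coeff x.1 * q.coeff x.2 := by
    rintro ⟨i, j⟩ hij
    rw [Finset.mem_antidiagonal] at hij
    have hij' : n * w = i * w + j * w := by rw [← hij]; ring
    rw [coeff_comp]
    by_cases hj : j * w ≤ a
    · have hm := (hq j).1 hj
      by_cases hi : i * w ≤ k
      · rw [if_pos (by omega), if_pos hi]
        have e1 : k + a - n * w = (k - i * w) + (a - j * w) := by omega
        rw [e1]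
        exact DirectSum.coe_decompose_mul_add_of_right_mem 𝒜 hm
      · rw [if_neg hi, zero_mul]
        split_ifs with h
        · exact DirectSum.coe_decompose_mul_of_right_mem_of_not_le 𝒜 hm (by omega)
        · rfl
    · have hm := (hq j).2 (not_le.1 hj)
      simp only [hm, mul_zero, map_zero, ite_self]
  rw [← Finset.sum_congr rfl key]
  split_ifs with h
  · rw [map_sum]
  · simp

theorem comp_mul_of_lt {w a : ℕ} {q : S[X]} (hq : WH 𝒜 w a q) {k : ℕ} (hk : k < a) (p : S[X]) :
    comp 𝒜 w k (p * q) = 0 := by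
  rw [wh_iff] at hq
  ext n
  rw [coeff_comp, coeff_mul, coeff_zero]
  split_ifs with h
  · rw [map_sum]
    refine Finset.sum_eq_zero ?_
    rintro ⟨i, j⟩ hij
    rw [Finset.mem_antidiagonal] at hij
    have hij' : n * w = i * w + j * w := by rw [← hij]; ring
    have hm := (hq j).1 (by omega)
    exact DirectSum.coe_decompose_mul_of_right_mem_of_not_le 𝒜 hm (by omega)
  · rfl

theorem WH.mul {w a b : ℕ} {p q : S[X]} (hp : WH 𝒜 w a p) (hq : WH 𝒜 w b q) :
    WH 𝒜 w (a + b) (p * q) := by
  rw [WH, comp_mul 𝒜 hq, hp]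

theorem wh_one (w : ℕ) : WH 𝒜 w 0 (1 : S[X]) := by
  rw [wh_iff]
  intro n
  rw [coeff_one]
  by_cases hn : n = 0
  · subst hn
    simp [SetLike.GradedOne.one_mem]
  · rw [if_neg (by omega)]
    exact ⟨fun _ => zero_mem _, fun _ => rfl⟩

theorem WH.pow {w a : ℕ} {p : S[X]} (hp : WH 𝒜 w a p) (n : ℕ) : WH 𝒜 w (n * a) (p ^ n) := by
  induction n with
  | zero => rw [zero_mul, pow_zero]; exact wh_one 𝒜 w
  | succ n ih =>
    rw [pow_succ, add_mul, one_mul]
    exact WH.mul 𝒜 ih hp

theorem comp_C (w k : ℕ) (c : S) : comp 𝒜 w k (C c) = C (GradedRing.proj 𝒜 k c) := by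
  ext n
  rw [coeff_comp, coeff_C, coeff_C]
  by_cases hn : n = 0
  · subst hn; simp
  · simp [hn]

/-- Components of a composition. -/
theorem comp_comp {w d : ℕ} {q : S[X]} (hq : WH 𝒜 w d q) (k : ℕ) (p : S[X]) :
    comp 𝒜 w k (p.comp q) = (comp 𝒜 d k p).comp q := by
  have h1 : p.comp q = ∑ i ∈ p.support, C (p.coeff i) * q ^ i := by
    rw [Polynomial.comp, eval₂_eq_sum, Polynomial.sum]
  rw [h1, comp_sum]
  conv_rhs => rw [comp, Polynomial.comp, eval₂_finsetSum]
  refine Finset.sum_congr rfl fun i _ => ?_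
  by_cases h : i * d ≤ k
  · rw [if_pos h, eval₂_mul, eval₂_C, eval₂_X_pow]
    obtain ⟨l, rfl⟩ := Nat.exists_eq_add_of_le h
    rw [add_comm, comp_mul 𝒜 (WH.pow 𝒜 hq i), comp_C, Nat.add_sub_cancel]
  · rw [if_neg h, eval₂_zero]
    exact comp_mul_of_lt 𝒜 (WH.pow 𝒜 hq i) (not_le.1 h) _

theorem WH.comp {w d k : ℕ} {p q : S[X]} (hq : WH 𝒜 w d q) (hp : WH 𝒜 d k p) :
    WH 𝒜 w k (p.comp q) := by
  rw [WH, comp_comp 𝒜 hq, hp]

theorem wh_comp (w k : ℕ) (p : S[X]) : WH 𝒜 w k (comp 𝒜 w k p) := by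
  rw [wh_iff]
  intro n
  rw [coeff_comp]
  constructor
  · intro h
    rw [if_pos h]
    exact (DirectSum.decompose 𝒜 (p.coeff n) (k - n * w)).2
  · intro h
    rw [if_neg (not_le.2 h)]

/-- The top homogeneous component of a monic polynomial is monic. -/
theorem monic_comp {w d : ℕ} {p : S[X]} (hp : p.Monic) (hd : p.natDegree = d) (hS : Nontrivial S) :
    (comp 𝒜 w (d * w) p).Monic ∧ (comp 𝒜 w (d * w) p).natDegree = d := by
  have h1 : (comp 𝒜 w (d * w) p).coeff d = 1 := by
    rw [coeff_comp, if_pos le_rfl, Nat.sub_self, ← hd, hp.coeff_natDegree]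
    exact DirectSum.decompose_of_mem_same 𝒜 SetLike.GradedOne.one_mem
  have h2 : (comp 𝒜 w (d * w) p).natDegree ≤ d := by
    rw [natDegree_le_iff_coeff_eq_zero]
    intro n hn
    rw [coeff_comp, coeff_eq_zero_of_natDegree_lt (by rw [hd]; exact hn), map_zero, ite_self]
  refine ⟨monic_of_natDegree_le_of_coeff_eq_one d h2 h1, ?_⟩
  refine le_antisymm h2 (le_natDegree_of_ne_zero ?_)
  rw [h1]
  exact one_ne_zero

omit [GradedAlgebra 𝒜] in
variable {𝒜} in
/-- For `g` monic and `G` arbitrary there is a monic `R` with `deg R = deg g` and `g ∣ R(G)`. -/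
theorem exists_monic_dvd_comp {S : Type v} [CommRing S] [Nontrivial S] {g : S[X]} (hg : g.Monic)
    (G : S[X]) : ∃ R : S[X], R.Monic ∧ R.natDegree = g.natDegree ∧ g ∣ R.comp G := by
  let pb := AdjoinRoot.powerBasis' hg
  have i1 : Module.Free S (AdjoinRoot g) := Module.Free.of_basis pb.basis
  have i2 : Module.Finite S (AdjoinRoot g) := pb.finite
  let f := Algebra.lmul S (AdjoinRoot g) (AdjoinRoot.mk g G)
  refine ⟨LinearMap.charpoly f, LinearMap.charpoly_monic f, ?_, ?_⟩
  · rw [LinearMap.charpoly_natDegree, PowerBasis.finrank pb]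
    rfl
  · rw [← AdjoinRoot.mk_eq_zero]
    have h := LinearMap.aeval_self_charpoly f
    have h1 : aeval f (LinearMap.charpoly f) =
        Algebra.lmul S (AdjoinRoot g) (aeval (AdjoinRoot.mk g G) (LinearMap.charpoly f)) :=
      Polynomial.aeval_algHom_apply _ _ _
    rw [h1] at h
    have h2 : aeval (AdjoinRoot.mk g G) (LinearMap.charpoly f) = 0 := by
      have := DFunLike.congr_fun h 1
      simpa using this
    have h3 : aeval (AdjoinRoot.mk g G) (LinearMap.charpoly f) =
        AdjoinRoot.mkₐ g (aeval G (LinearMap.charpoly f)) :=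
      Polynomial.aeval_algHom_apply (AdjoinRoot.mkₐ g) _ _
    rw [h2] at h3
    exact h3.symm

section main

variable {K : Type u} {S : Type v} [Field K] [CharZero K] [CommRing S] [Algebra K S] [Nontrivial S]
  (𝒜 : ℕ → Submodule K S) [GradedAlgebra 𝒜]

theorem exists_belyi_aux (d : ℕ) : ∀ (w : ℕ) (F : S[X]), F.Monic → F.natDegree = d →
    WH 𝒜 w (d * w) F → ∃ (h : S[X]) (R : Finset S) (m : ℕ), h.Monic ∧ 0 < h.natDegree ∧
      WH 𝒜 w (h.natDegree * w) h ∧ (∀ r ∈ R, r ∈ 𝒜 (h.natDegree * w)) ∧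
      F ∣ (∏ r ∈ R, (h - C r)) ^ m ∧ derivative h ∣ (∏ r ∈ R, (h - C r)) ^ m := by
  classical
  induction d with
  | zero =>
    intro w F hF hd _
    refine ⟨X, ∅, 0, monic_X, by rw [natDegree_X]; exact one_pos, ?_, by simp, ?_, by simp⟩
    · rw [natDegree_X, wh_iff]
      intro n
      rw [coeff_X]
      by_cases hn : 1 = n
      · subst hn
        rw [if_pos rfl, Nat.sub_self]
        exact ⟨fun _ => SetLike.GradedOne.one_mem, fun h => absurd h (lt_irrefl _)⟩
      · rw [if_neg hn]
        exact ⟨fun _ => zero_mem _, fun _ => rfl⟩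
    · rw [eq_one_of_monic_natDegree_zero hF hd]
      exact one_dvd _
  | succ d ih =>
    intro w G hG hd hw
    have hdK : ((d : K) + 1) ≠ 0 := Nat.cast_add_one_ne_zero d
    -- the normalized derivative
    let g : S[X] := ((d : K) + 1)⁻¹ • derivative G
    have hgc : ∀ n, g.coeff n = ((d : K) + 1)⁻¹ • (G.coeff (n + 1) * ((n : S) + 1)) := fun n => by
      rw [coeff_smul, coeff_derivative]
    have hg1 : g.coeff d = 1 := by
      have h1 : G.coeff (d + 1) = 1 := by rw [← hd]; exact hG.coeff_natDegree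
      rw [hgc, h1, one_mul]
      have h2 : ((d : S) + 1) = ((d : K) + 1) • (1 : S) := by
        rw [← Algebra.algebraMap_eq_smul_one, map_add, map_natCast, map_one]
      rw [h2, smul_smul, inv_mul_cancel₀ hdK, one_smul]
    have hg2 : g.natDegree ≤ d := by
      rw [natDegree_le_iff_coeff_eq_zero]
      intro n hn
      rw [hgc, coeff_eq_zero_of_natDegree_lt (by rw [hd]; omega), zero_mul, smul_zero]
    have hg : g.Monic := monic_of_natDegree_le_of_coeff_eq_one d hg2 hg1
    have hgd : g.natDegree = d :=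
      le_antisymm hg2 (le_natDegree_of_ne_zero (by rw [hg1]; exact one_ne_zero))
    have hgw : WH 𝒜 w (d * w) g := by
      rw [wh_iff] at hw ⊢
      intro n
      rw [hgc]
      have h1 := hw (n + 1)
      rw [add_mul, one_mul, add_mul, one_mul] at h1
      constructor
      · intro h
        refine Submodule.smul_mem _ _ ?_
        have h2 := h1.1 (by omega)
        have h3 : d * w + w - (n * w + w) = d * w - n * w := by omega
        rw [h3] at h2
        have h4 : G.coeff (n + 1) * ((n : S) + 1) = ((n : K) + 1) • G.coeff (n + 1) := by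
          rw [Algebra.smul_def, map_add, map_natCast, map_one, mul_comm]
        rw [h4]
        exact Submodule.smul_mem _ _ h2
      · intro h
        rw [h1.2 (by omega), zero_mul, smul_zero]
    have hder : derivative G = C (algebraMap K S ((d : K) + 1)) * g := by
      rw [← Polynomial.smul_eq_C_mul, algebraMap_smul, smul_smul, mul_inv_cancel₀ hdK, one_smul]
    obtain ⟨R0, hR0, hR0d, hR0g⟩ := exists_monic_dvd_comp hg G
    rw [hgd] at hR0d
    -- homogeneous component
    obtain ⟨hRm, hRd⟩ := monic_comp 𝒜 (w := (d + 1) * w) hR0 hR0d inferInstance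
    have hRw := wh_comp 𝒜 ((d + 1) * w) (d * ((d + 1) * w)) R0
    have hRg : g ∣ (comp 𝒜 ((d + 1) * w) (d * ((d + 1) * w)) R0).comp G := by
      rw [← comp_comp 𝒜 hw]
      obtain ⟨u, hu⟩ := hR0g
      rw [hu, mul_comm g u]
      by_cases hle : d * w ≤ d * ((d + 1) * w)
      · obtain ⟨l, hl⟩ := Nat.exists_eq_add_of_le hle
        rw [hl, add_comm, comp_mul 𝒜 hgw]
        exact dvd_mul_left _ _
      · rw [comp_mul_of_lt 𝒜 hgw (not_le.1 hle)]
        exact dvd_zero _
    obtain ⟨h, R, m, h1, h2, h3, h4, h5, h6⟩ := ih _ _ hRm hRd hRw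
    have e1 : ∀ m : ℕ, ((∏ r ∈ R, (h - C r)) ^ m).comp G = (∏ r ∈ R, (h.comp G - C r)) ^ m := by
      intro m
      rw [pow_comp, prod_comp]
      congr 1
      refine Finset.prod_congr rfl fun r _ => ?_
      rw [sub_comp, C_comp]
    have e2 : (∏ r ∈ R, (h.comp G - C r)) ∣
        (∏ r ∈ insert (h.coeff 0) R, (h.comp G - C r)) :=
      Finset.prod_dvd_prod_of_subset _ _ _ (Finset.subset_insert _ _)
    have hnd : (h.comp G).natDegree = h.natDegree * (d + 1) := by
      rw [natDegree_comp_eq_of_mul_ne_zero, hd]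
      rw [h1.leadingCoeff, hG.leadingCoeff]
      simp
    have hnd' : (h.comp G).natDegree * w = h.natDegree * ((d + 1) * w) := by
      rw [hnd, mul_assoc]
    refine ⟨h.comp G, insert (h.coeff 0) R, 2 * m + 1, h1.comp hG (by rw [hd]; omega), ?_, ?_, ?_,
      ?_, ?_⟩
    · rw [hnd]; positivity
    · rw [hnd']
      exact WH.comp 𝒜 hw h3
    · rw [hnd']
      intro r hr
      rcases Finset.mem_insert.1 hr with rfl | hr
      · have := ((wh_iff 𝒜).1 h3 0).1 (by simp)
        simpa using this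
      · exact h4 r hr
    · have h7 : X ∣ h - C (h.coeff 0) := by
        rw [X_dvd_iff, coeff_sub, coeff_C_zero, sub_self]
      obtain ⟨u, hu⟩ := h7
      have h8 : h.comp G - C (h.coeff 0) = G * u.comp G := by
        have := congrArg (fun p => p.comp G) hu
        simp only [sub_comp, C_comp, mul_comp, X_comp] at this
        exact this
      refine (Dvd.intro _ h8.symm).trans ?_
      refine (Finset.dvd_prod_of_mem (fun r => h.comp G - C r)
        (Finset.mem_insert_self (h.coeff 0) R)).trans ?_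
      exact dvd_pow_self _ (by omega)
    · rw [derivative_comp]
      have h9 : (derivative h).comp G ∣ (∏ r ∈ R, (h.comp G - C r)) ^ m := by
        rw [← e1]
        exact map_dvd (compRingHom G) h6
      have h10 : derivative G ∣ (∏ r ∈ R, (h.comp G - C r)) ^ m := by
        rw [← e1, hder]
        have h11 : g ∣ ((∏ r ∈ R, (h - C r)) ^ m).comp G := hRg.trans (map_dvd (compRingHom G) h5)
        refine (IsUnit.mul_left_dvd ?_).2 h11
        exact (IsUnit.map (algebraMap K S) (IsUnit.mk0 _ hdK)).map C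
      have h12 := mul_dvd_mul h10 h9
      rw [← pow_add] at h12
      refine h12.trans ((pow_dvd_pow_of_dvd e2 _).trans (pow_dvd_pow _ (by omega)))

/-- **Belyi's trick** over a graded algebra over a field of characteristic zero: for `F` monic and
homogeneous (`X` of weight `w`) there is `h` monic homogeneous and finitely many homogeneous `r ∈ S`
such that `F` and the derivative of `h` divide a power of `∏ (h - r)`. -/
theorem exists_belyi (w : ℕ) (F : S[X]) (hF : F.Monic) (hw : WH 𝒜 w (F.natDegree * w) F) :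
    ∃ (h : S[X]) (R : Finset S) (m : ℕ), h.Monic ∧ 0 < h.natDegree ∧
      WH 𝒜 w (h.natDegree * w) h ∧ (∀ r ∈ R, r ∈ 𝒜 (h.natDegree * w)) ∧
      F ∣ (∏ r ∈ R, (h - C r)) ^ m ∧ derivative h ∣ (∏ r ∈ R, (h - C r)) ^ m :=
  exists_belyi_aux 𝒜 F.natDegree w F hF rfl hw

end main

open MvPolynomial in
/-- **Belyi's trick**, homogeneous form over a polynomial ring `S = K[x_σ]`, `X` of weight one. -/
theorem exists_belyi_mvPolynomial {K : Type u} [Field K] [CharZero K] {σ : Type v}
    (F : Polynomial (MvPolynomial σ K)) (hF : F.Monic)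
    (hw : ∀ i j, i + j = F.natDegree → (F.coeff i).IsHomogeneous j) :
    ∃ (h : Polynomial (MvPolynomial σ K)) (R : Finset (MvPolynomial σ K)) (m : ℕ), h.Monic ∧
      0 < h.natDegree ∧ (∀ i j, i + j = h.natDegree → (h.coeff i).IsHomogeneous j) ∧
      (∀ r ∈ R, r.IsHomogeneous h.natDegree) ∧
      F ∣ (∏ r ∈ R, (h - Polynomial.C r)) ^ m ∧
      Polynomial.derivative h ∣ (∏ r ∈ R, (h - Polynomial.C r)) ^ m := by
  let _ : GradedAlgebra (homogeneousSubmodule σ K) := MvPolynomial.gradedAlgebra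
  have key : WH (homogeneousSubmodule σ K) 1 (F.natDegree * 1) F := by
    rw [wh_iff]
    intro n
    rw [mul_one, mul_one]
    refine ⟨fun h => ?_, fun h => Polynomial.coeff_eq_zero_of_natDegree_lt h⟩
    rw [mem_homogeneousSubmodule]
    exact hw n _ (by omega)
  obtain ⟨h, R, m, h1, h2, h3, h4, h5, h6⟩ :=
    exists_belyi (homogeneousSubmodule σ K) 1 F hF key
  refine ⟨h, R, m, h1, h2, fun i j hij => ?_, fun r hr => ?_, h5, h6⟩
  · have := ((wh_iff _).1 h3 i).1 (by omega)
    rw [mem_homogeneousSubmodule] at this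
    have e : h.natDegree * 1 - i * 1 = j := by omega
    rwa [e] at this
  · have := h4 r hr
    rwa [mem_homogeneousSubmodule, mul_one] at this

end K73.Belyi
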