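import Groth.Agent.Resolve.K73.ToricIdx

/-!
# Toric charts: the monoid algebra of a simplicial cone

`K[cone v]` is a finitely generated normal domain; localisations at monomials.
-/

set_option autoImplicit false

open AddMonoidAlgebra Function

namespace K73.Toric

/-! ### Localisation of monoid algebras -/

section loc
variable {K Q Q' : Type*} [CommRing K] [AddCommMonoid Q] [AddCommMonoid Q']

/-- Inverting a monomial. -/
theorem isLocalization_away (f : Q →+ Q') (hf : Injective f) [Algebra K[Q] K[Q']]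
    (halg : algebraMap K[Q] K[Q'] = mapDomainRingHom K f) (a : Q) (b : Q') (hab : f a + b = 0)
    (h : ∀ q', ∃ (n : ℕ) (q : Q), q' + n • f a = f q) :
    IsLocalization.Away (single a 1 : K[Q]) K[Q'] := by
  have hmap : ∀ q (r : K), algebraMap K[Q] K[Q'] (single q r) = single (f q) r := fun q r => by
    rw [halg]; simp
  have hpow : ∀ n : ℕ, (single a (1 : K) : K[Q]) ^ n = single (n • a) 1 := fun n => by
    rw [single_pow, one_pow]
  have hu : IsUnit (single (f a) (1 : K) : K[Q']) := by
    refine IsUnit.of_mul_eq_one (single b 1) ?_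
    rw [single_mul_single, hab, one_mul]; rfl
  refine ⟨?_, ?_, ?_⟩
  · rintro ⟨_, n, rfl⟩
    rw [map_pow, hmap]
    exact hu.pow n
  · -- surjectivity
    intro z
    suffices H : ∃ (n : ℕ) (x : K[Q]), z * algebraMap K[Q] K[Q'] (single a 1 ^ n) = algebraMap _ _ x by
      obtain ⟨n, x, hx⟩ := H
      exact ⟨(x, ⟨_, n, rfl⟩), hx⟩
    induction z using AddMonoidAlgebra.induction_linear with
    | zero => exact ⟨0, 0, by simp⟩
    | add z₁ z₂ h₁ h₂ =>
      obtain ⟨n₁, x₁, h₁⟩ := h₁
      obtain ⟨n₂, x₂, h₂⟩ := h₂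
      refine ⟨n₁ + n₂, x₁ * single a 1 ^ n₂ + x₂ * single a 1 ^ n₁, ?_⟩
      rw [map_add, map_mul, map_mul, ← h₁, ← h₂, pow_add, map_mul]
      ring
    | single q' r =>
      obtain ⟨n, q, hq⟩ := h q'
      refine ⟨n, single q r, ?_⟩
      rw [hpow, hmap, hmap, single_mul_single, mul_one, map_nsmul, hq]
  · intro x y hxy
    refine ⟨1, ?_⟩
    rw [halg] at hxy
    rw [mapDomain_injective hf hxy]

end loc

variable {J P : Type*} [AddCommGroup P]

/-- the inclusion `K[Q] → K[Q']` -/
noncomputable abbrev incl (K : Type*) [CommRing K] {Q Q' : AddSubmonoid P} (h : Q ≤ Q') :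
    K[Q] →+* K[Q'] :=
  mapDomainRingHom K (AddSubmonoid.inclusion h)

lemma incl_injective (K : Type*) [CommRing K] {Q Q' : AddSubmonoid P} (h : Q ≤ Q') :
    Injective (incl K h) :=
  mapDomain_injective (AddSubmonoid.inclusion_injective h)

/-- a submonoid obtained from a cone by inverting one element -/
theorem isLocalization_cone {K : Type*} [CommRing K] [Finite J] {v : J → P →+ ℤ}
    {Q' : AddSubmonoid P} (hle : cone v ≤ Q') [Algebra K[cone v] K[Q']]
    (halg : algebraMap K[cone v] K[Q'] = incl K hle)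
    (a : P) (ha : a ∈ cone v) (ha' : -a ∈ Q') (h : ∀ l, 0 < v l a ∨ ∀ q ∈ Q', 0 ≤ v l q) :
    IsLocalization.Away (single ⟨a, ha⟩ 1 : K[cone v]) K[Q'] := by
  have := Fintype.ofFinite J
  refine isLocalization_away (AddSubmonoid.inclusion hle) (AddSubmonoid.inclusion_injective hle)
    halg ⟨a, ha⟩ ⟨-a, ha'⟩ (Subtype.ext (by simp)) fun q' => ?_
  refine ⟨∑ l, (v l q').natAbs, ⟨q' + (∑ l, (v l q').natAbs) • a, fun l => ?_⟩, Subtype.ext ?_⟩
  · rw [map_add, map_nsmul, nsmul_eq_mul]
    rcases h l with h | h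
    · have h1 : (v l q').natAbs ≤ ∑ l, (v l q').natAbs :=
        Finset.single_le_sum (f := fun l => (v l q').natAbs) (fun _ _ => Nat.zero_le _)
          (Finset.mem_univ l)
      have h2 : ((∑ l, (v l q').natAbs : ℕ) : ℤ) * 1 ≤ ((∑ l, (v l q').natAbs : ℕ) : ℤ) * v l a :=
        mul_le_mul_of_nonneg_left (by omega) (by positivity)
      omega
    · exact add_nonneg (h _ q'.2) (mul_nonneg (by positivity) (ha l))
  · simp

/-! ### Finite generation -/

section fg

/-- the kernel of all `v i` -/
def lin (v : J → P →+ ℤ) : AddSubgroup P := (AddMonoidHom.pi v).ker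

@[simp] lemma mem_lin {v : J → P →+ ℤ} {q : P} : q ∈ lin v ↔ ∀ i, v i q = 0 := by
  rw [lin, AddMonoidHom.mem_ker]
  exact ⟨fun h i => congrFun h i, fun h => funext h⟩

variable [Module.Finite ℤ P]

/-- **Gordan's lemma** in the simplicial case. -/
theorem cone_fg [Finite J] {v : J → P →+ ℤ} (hv : mult v ≠ 0) : (cone v).FG := by
  classical
  have := Fintype.ofFinite J
  set m := mult v with hm
  choose a ha ha' using fun i => exists_single v i 1
  -- representatives
  let B := {x : J → ℤ // (∀ i, 0 ≤ x i ∧ x i < m) ∧ ∃ q, ∀ i, v i q = x i}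
  have hB : Finite B := by
    have : Finite (J → Set.Ico (0 : ℤ) m) := inferInstance
    refine Finite.of_injective (β := J → Set.Ico (0 : ℤ) m) (fun x i => ⟨x.1 i, x.2.1 i⟩) ?_
    intro x y hxy
    apply Subtype.ext
    funext i
    exact congrArg Subtype.val (congrFun hxy i)
  choose r hr using fun x : B => x.2.2
  have hlin : (lin v).toAddSubmonoid.FG := by
    rw [← AddSubgroup.fg_iff_addSubmonoid_fg]
    have : (AddSubgroup.toIntSubmodule (lin v)).FG := IsNoetherian.noetherian _
    exact (Submodule.fg_iff_addSubgroup_fg _).1 this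
  have hfin : (AddSubmonoid.closure (Set.range a ∪ Set.range r)).FG := by
    rw [AddSubmonoid.fg_iff]
    exact ⟨_, rfl, (Set.finite_range a).union (Set.finite_range r)⟩
  have hmul : ∀ i, v i (a i) = m := fun i => by rw [ha, mul_one]
  have hmpos : (0 : ℤ) < m := by exact_mod_cast Nat.pos_of_ne_zero hv
  suffices h : cone v = (lin v).toAddSubmonoid ⊔ AddSubmonoid.closure (Set.range a ∪ Set.range r) by
    rw [h]; exact hlin.sup hfin
  apply le_antisymm
  · intro q hq
    -- `q = ∑ k i a i + r + linear`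
    let x : J → ℤ := fun i => v i q % m
    let k : J → ℕ := fun i => (v i q / m).toNat
    have hk : ∀ i, (k i : ℤ) = v i q / m := fun i =>
      Int.toNat_of_nonneg (Int.ediv_nonneg (hq i) hmpos.le)
    have hsum : ∀ i, v i (∑ l, k l • a l) = k i * m := fun i => by
      rw [map_sum, Finset.sum_eq_single i]
      · rw [map_nsmul, hmul, nsmul_eq_mul]
      · intro l _ hl; rw [map_nsmul, ha' l i hl.symm, smul_zero]
      · intro h; exact absurd (Finset.mem_univ i) h
    have hx : (∀ i, 0 ≤ x i ∧ x i < m) ∧ ∃ q, ∀ i, v i q = x i := by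
      refine ⟨fun i => ⟨Int.emod_nonneg _ hmpos.ne', Int.emod_lt_of_pos _ hmpos⟩,
        q - ∑ l, k l • a l, fun i => ?_⟩
      rw [map_sub, hsum, hk]
      have := Int.emod_add_ediv_mul (v i q) m
      simp only [x]; linarith
    have h1 : q - ∑ l, k l • a l - r ⟨x, hx⟩ ∈ lin v := by
      rw [mem_lin]
      intro i
      rw [map_sub, map_sub, hsum, hk, hr]
      have := Int.emod_add_ediv_mul (v i q) m
      simp only [x]; linarith
    have h2 : q = (q - ∑ l, k l • a l - r ⟨x, hx⟩) + (∑ l, k l • a l + r ⟨x, hx⟩) := by abel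
    rw [h2]
    refine add_mem (AddSubmonoid.mem_sup_left h1) (AddSubmonoid.mem_sup_right (add_mem ?_ ?_))
    · refine AddSubmonoid.sum_mem _ fun l _ => AddSubmonoid.nsmul_mem _ ?_ _
      exact AddSubmonoid.subset_closure (Or.inl ⟨l, rfl⟩)
    · exact AddSubmonoid.subset_closure (Or.inr ⟨_, rfl⟩)
  · refine sup_le (fun q hq i => ?_) (AddSubmonoid.closure_le.2 ?_)
    · rw [mem_lin.1 hq i]
    · rintro _ (⟨l, rfl⟩ | ⟨x, rfl⟩) i
      · by_cases h : i = l
        · subst h; rw [hmul]; exact hmpos.le
        · rw [ha' l i h]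
      · rw [hr]; exact (x.2.1 i).1

theorem addMonoid_fg_cone [Finite J] {v : J → P →+ ℤ} (hv : mult v ≠ 0) :
    AddMonoid.FG (cone v) :=
  (AddMonoid.fg_iff_addSubmonoid_fg _).2 (cone_fg hv)

variable (K : Type*) [CommRing K]

theorem finiteType_cone [Finite J] {v : J → P →+ ℤ} (hv : mult v ≠ 0) :
    Algebra.FiniteType K K[cone v] :=
  have := addMonoid_fg_cone hv
  inferInstance

theorem isNoetherianRing_cone [Finite J] [IsNoetherianRing K] {v : J → P →+ ℤ} (hv : mult v ≠ 0) :
    IsNoetherianRing K[cone v] :=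
  have := finiteType_cone K hv
  Algebra.FiniteType.isNoetherianRing K _

end fg

/-! ### The group algebra of a lattice -/

section lattice
variable [Module.Finite ℤ P] [Module.Free ℤ P] (K : Type*) [Field K]

instance instUnique : TwoUniqueSums P := by
  have : AddMonoid.FG P := AddGroup.fg_iff_addMonoid_fg.1 (Module.Finite.iff_addGroup_fg.1 ‹_›)
  have : IsAddTorsionFree P := Module.isTorsionFree_int_iff_isAddTorsionFree.1 inferInstance
  infer_instance

instance (Q : AddSubmonoid P) : TwoUniqueSums Q :=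
  .of_injective_addHom (Q.subtype : Q →ₙ+ P) Subtype.val_injective inferInstance

example (Q : AddSubmonoid P) : IsDomain K[Q] := inferInstance

theorem isIntegrallyClosed_group : IsIntegrallyClosed K[P] := by
  classical
  let ι := Module.Free.ChooseBasisIndex ℤ P
  have : Fintype ι := inferInstance
  let b : Module.Basis ι ℤ P := Module.Free.chooseBasis ℤ P
  -- the map `(ι →₀ ℕ) → P`
  let f : (ι →₀ ℕ) →+ P :=
    b.repr.symm.toLinearMap.toAddMonoidHom.comp (Finsupp.mapRange.addMonoidHom (Nat.castAddMonoidHom ℤ))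
  have hf : Injective f := b.repr.symm.injective.comp
    (Finsupp.mapRange_injective _ (by simp) Nat.cast_injective)
  let a : ι →₀ ℕ := Finsupp.equivFunOnFinite.symm fun _ => 1
  let _ : Algebra K[ι →₀ ℕ] K[P] := (mapDomainRingHom K f).toAlgebra
  have hloc : IsLocalization.Away (single a 1 : K[ι →₀ ℕ]) K[P] := by
    refine isLocalization_away f hf rfl a (-f a) (by simp) fun q' => ?_
    refine ⟨∑ i, (b.repr q' i).natAbs, Finsupp.equivFunOnFinite.symm fun i =>
      (b.repr q' i + ∑ i, (b.repr q' i).natAbs).toNat, ?_⟩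
    apply b.repr.injective
    ext i
    have h0 : (0 : ℤ) ≤ b.repr q' i + ∑ i, (b.repr q' i).natAbs := by
      have h1 : (b.repr q' i).natAbs ≤ ∑ i, (b.repr q' i).natAbs :=
        Finset.single_le_sum (f := fun i => (b.repr q' i).natAbs) (fun _ _ => Nat.zero_le _)
          (Finset.mem_univ i)
      omega
    simp only [f, a, map_add, map_nsmul, AddMonoidHom.comp_apply, LinearMap.toAddMonoidHom_coe,
      LinearEquiv.coe_coe, LinearEquiv.apply_symm_apply, Finsupp.add_apply, Finsupp.smul_apply,
      Finsupp.mapRange.addMonoidHom_apply, Finsupp.mapRange_apply, Nat.coe_castAddMonoidHom,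
      Finsupp.equivFunOnFinite_symm_apply_apply, Nat.cast_one, nsmul_eq_mul, mul_one]
    rw [Int.toNat_of_nonneg h0]
  have h1 : IsIntegrallyClosed (MvPolynomial ι K) := inferInstance
  have h2 : IsDomain (MvPolynomial ι K) := inferInstance
  have h1' : IsIntegrallyClosed K[ι →₀ ℕ] := h1
  have h2' : IsDomain K[ι →₀ ℕ] := h2
  refine isIntegrallyClosed_of_isLocalization (R := K[ι →₀ ℕ]) K[P]
    (Submonoid.powers (single a 1 : K[ι →₀ ℕ])) ?_
  refine powers_le_nonZeroDivisors_of_noZeroDivisors ?_
  intro h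
  have := congrArg (fun z => z.coeff a) h
  simp at this

end lattice

/-! ### Orders along linear forms -/

section ord
variable {K : Type*} [CommRing K]

/-- the order of `z` along the form `u` -/
noncomputable def ord (u : P →+ ℤ) (z : K[P]) : WithTop ℤ :=
  z.coeff.support.inf fun q => (u q : WithTop ℤ)

lemma le_ord {u : P →+ ℤ} {z : K[P]} {k : WithTop ℤ} :
    k ≤ ord u z ↔ ∀ q, z.coeff q ≠ 0 → k ≤ (u q : WithTop ℤ) := by
  simp [ord, Finset.le_inf_iff]

lemma ord_zero (u : P →+ ℤ) : ord u (0 : K[P]) = ⊤ := by simp [ord]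

lemma ord_eq_top {u : P →+ ℤ} {z : K[P]} : ord u z = ⊤ ↔ z = 0 := by
  refine ⟨fun h => ?_, fun h => h ▸ ord_zero u⟩
  ext q
  by_contra hq
  have := (le_ord (k := ⊤)).1 h.ge q hq
  exact absurd this (by simp)

lemma ord_single (u : P →+ ℤ) (q : P) {r : K} (hr : r ≠ 0) : ord u (single q r) = u q := by
  classical
  apply le_antisymm
  · refine Finset.inf_le (f := fun q => (u q : WithTop ℤ)) ?_
    simp [hr]
  · rw [le_ord]
    intro q' h
    have : q' = q := by
      by_contra hne
      apply h
      simp [Ne.symm hne]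
    rw [this]

lemma min_ord_le_ord_add (u : P →+ ℤ) (x y : K[P]) : min (ord u x) (ord u y) ≤ ord u (x + y) := by
  rw [le_ord]
  intro q hq
  by_cases h : x.coeff q = 0
  · have hy : y.coeff q ≠ 0 := by
      intro h'; apply hq; simp [h, h']
    exact (min_le_right _ _).trans (le_ord.1 le_rfl q hy)
  · exact (min_le_left _ _).trans (le_ord.1 le_rfl q h)

lemma exists_of_coeff_mul_ne_zero {x y : K[P]} {q : P} (h : (x * y).coeff q ≠ 0) :
    ∃ a b, x.coeff a ≠ 0 ∧ y.coeff b ≠ 0 ∧ a + b = q := by
  classical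
  have h1 := support_coeff_mul_subset x y (Finsupp.mem_support_iff.2 h)
  rw [Finset.mem_add] at h1
  obtain ⟨a, ha, b, hb, hab⟩ := h1
  exact ⟨a, b, Finsupp.mem_support_iff.1 ha, Finsupp.mem_support_iff.1 hb, hab⟩

lemma ord_add_le_ord_mul (u : P →+ ℤ) (x y : K[P]) : ord u x + ord u y ≤ ord u (x * y) := by
  rw [le_ord]
  intro q hq
  obtain ⟨a, b, ha, hb, rfl⟩ := exists_of_coeff_mul_ne_zero hq
  rw [map_add, WithTop.coe_add]
  exact add_le_add (le_ord.1 le_rfl a ha) (le_ord.1 le_rfl b hb)

/-- the part of `z` of `u`-degree `k` -/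
noncomputable def part (u : P →+ ℤ) (k : ℤ) (z : K[P]) : K[P] :=
  .ofCoeff (by classical exact z.coeff.filter fun q => u q = k)

lemma coeff_part (u : P →+ ℤ) (k : ℤ) (z : K[P]) (q : P) :
    (part u k z).coeff q = if u q = k then z.coeff q else 0 := by
  classical
  simp only [part, coeff_ofCoeff, Finsupp.filter_apply]

lemma part_add (u : P →+ ℤ) (k : ℤ) (x y : K[P]) : part u k (x + y) = part u k x + part u k y := by
  ext q
  simp only [coeff_part, coeff_add, Finsupp.add_apply]
  split_ifs <;> simp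

lemma part_eq_zero {u : P →+ ℤ} {k : ℤ} {z : K[P]} (h : (k : WithTop ℤ) < ord u z) :
    part u k z = 0 := by
  ext q
  rw [coeff_part]
  split_ifs with hq
  · by_contra hne
    have := h.trans_le (le_ord.1 le_rfl q hne)
    rw [hq] at this
    exact lt_irrefl _ this
  · rfl

lemma part_ne_zero {u : P →+ ℤ} {k : ℤ} {z : K[P]} (h : ord u z = k) : part u k z ≠ 0 := by
  intro h0
  have hz : z.coeff.support.Nonempty := by
    by_contra hne
    rw [Finset.not_nonempty_iff_eq_empty] at hne
    rw [ord, hne] at h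
    simp at h
  obtain ⟨q, hq, hq'⟩ := Finset.exists_mem_eq_inf _ hz (fun q => (u q : WithTop ℤ))
  have h1 : u q = k := by
    have : ord u z = u q := hq'
    rw [h] at this
    exact_mod_cast this.symm
  have := congrArg (fun z => z.coeff q) h0
  simp only [coeff_part, h1, if_true] at this
  exact Finsupp.mem_support_iff.1 hq this

lemma part_mul {u : P →+ ℤ} {k l : ℤ} {x y : K[P]} (hx : (k : WithTop ℤ) ≤ ord u x)
    (hy : (l : WithTop ℤ) ≤ ord u y) : part u (k + l) (x * y) = part u k x * part u l y := by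
  have hk1 : ∀ (m : ℤ) (z : K[P]), (m : WithTop ℤ) ≤ ord u z →
      ((m + 1 : ℤ) : WithTop ℤ) ≤ ord u (z - part u m z) := fun m z hz => by
    rw [le_ord]
    intro q hq
    rw [coeff_sub, Finsupp.sub_apply, coeff_part] at hq
    split_ifs at hq with h
    · exact absurd (sub_self _) hq
    · rw [sub_zero] at hq
      have := le_ord.1 hz q hq
      have h2 : m ≤ u q := by exact_mod_cast this
      have h3 : m + 1 ≤ u q := by omega
      exact_mod_cast h3
  have hle : ∀ (m : ℤ) (z : K[P]), (m : WithTop ℤ) ≤ ord u (part u m z) := fun m z => by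
    rw [le_ord]
    intro q hq
    rw [coeff_part] at hq
    split_ifs at hq with h
    · exact_mod_cast h.ge
    · exact absurd rfl hq
  have e : x * y = part u k x * part u l y +
      (part u k x * (y - part u l y) + (x - part u k x) * y) := by ring
  have hlt : ((k + l : ℤ) : WithTop ℤ) < ord u
      (part u k x * (y - part u l y) + (x - part u k x) * y) := by
    have h0 : ((k + l : ℤ) : WithTop ℤ) < ((k + l + 1 : ℤ) : WithTop ℤ) := by
      exact_mod_cast lt_add_one _
    refine h0.trans_le (le_trans (le_min ?_ ?_) (min_ord_le_ord_add _ _ _))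
    · refine le_trans ?_ (ord_add_le_ord_mul _ _ _)
      rw [add_assoc, WithTop.coe_add]
      exact add_le_add (hle k x) (hk1 l y hy)
    · refine le_trans ?_ (ord_add_le_ord_mul _ _ _)
      rw [show k + l + 1 = (k + 1) + l by ring, WithTop.coe_add]
      exact add_le_add (hk1 k x hx) hy
  conv_lhs => rw [e]
  rw [part_add, part_eq_zero hlt, add_zero]
  ext q
  rw [coeff_part]
  split_ifs with h
  · rfl
  · by_contra hne
    obtain ⟨a, b, ha, hb, rfl⟩ := exists_of_coeff_mul_ne_zero (Ne.symm hne)
    rw [coeff_part] at ha hb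
    split_ifs at ha hb with h1 h2
    · exact h (by rw [map_add, h1, h2])
    all_goals simp at *

theorem ord_mul [IsDomain K[P]] (u : P →+ ℤ) (x y : K[P]) : ord u (x * y) = ord u x + ord u y := by
  apply le_antisymm _ (ord_add_le_ord_mul u x y)
  by_cases hx : x = 0
  · simp [hx, ord_zero]
  by_cases hy : y = 0
  · simp [hy, ord_zero]
  obtain ⟨k, hk⟩ := WithTop.ne_top_iff_exists.1 (mt ord_eq_top.1 hx : ord u x ≠ ⊤)
  obtain ⟨l, hl⟩ := WithTop.ne_top_iff_exists.1 (mt ord_eq_top.1 hy : ord u y ≠ ⊤)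
  rw [← hk, ← hl, ← WithTop.coe_add]
  by_contra hlt
  push Not at hlt
  have h1 := part_mul hk.le hl.le
  rw [part_eq_zero hlt] at h1
  exact mul_ne_zero (part_ne_zero hk.symm) (part_ne_zero hl.symm) h1.symm

/-- the additive valuation of `K[P]` attached to a linear form -/
noncomputable def ordVal [IsDomain K[P]] (u : P →+ ℤ) : AddValuation K[P] (WithTop ℤ) :=
  AddValuation.of (ord u) (ord_zero u)
    (by
      have : Nontrivial K := by
        by_contra h
        rw [not_nontrivial_iff_subsingleton] at h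
        exact one_ne_zero (α := K[P]) (by ext q; exact Subsingleton.elim _ _)
      rw [one_def, ord_single u 0 one_ne_zero]; simp)
    (min_ord_le_ord_add u) (ord_mul u)

end ord

/-! ### Normality -/

section normal
variable {K : Type*} [CommRing K]

/-- the inclusion `K[Q] → K[P]` -/
noncomputable abbrev toGroup (K : Type*) [CommRing K] (Q : AddSubmonoid P) : K[Q] →+* K[P] :=
  mapDomainRingHom K Q.subtype

lemma toGroup_injective (Q : AddSubmonoid P) : Injective (toGroup K Q) :=
  mapDomain_injective Subtype.val_injective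

lemma mem_range_toGroup {Q : AddSubmonoid P} {z : K[P]} :
    z ∈ (toGroup K Q).range ↔ ∀ q, z.coeff q ≠ 0 → q ∈ Q := by
  classical
  constructor
  · rintro ⟨x, rfl⟩ q hq
    by_contra hne
    apply hq
    change (Finsupp.mapDomain Q.subtype x.coeff) q = 0
    apply Finsupp.mapDomain_of_notMem_range
    rintro ⟨y, hy⟩
    exact hne (hy ▸ y.2)
  · intro h
    have h1 : (z.coeff.support : Set P) ⊆ Set.range Q.subtype := by
      intro q hq
      exact ⟨⟨q, h q (Finsupp.mem_support_iff.1 hq)⟩, rfl⟩
    exact ⟨_, mapDomain_comapDomain h1 Subtype.val_injective⟩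

lemma mem_range_toGroup_cone {v : J → P →+ ℤ} {z : K[P]} :
    z ∈ (toGroup K (cone v)).range ↔ ∀ i, 0 ≤ ord (v i) z := by
  rw [mem_range_toGroup]
  simp only [mem_cone]
  constructor
  · intro h i
    rw [le_ord]
    intro q hq
    exact_mod_cast h q hq i
  · intro h q hq i
    exact_mod_cast le_ord.1 (h i) q hq

/-- elements integral over `K[cone v]` have nonnegative orders -/
theorem ord_nonneg_of_isIntegral [IsDomain K[P]] {R : Type*} [CommRing R] [Algebra R K[P]]
    (u : P →+ ℤ) (hR : ∀ r : R, 0 ≤ ord u (algebraMap R K[P] r)) {z : K[P]}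
    (hz : IsIntegral R z) : 0 ≤ ord u z := by
  let w := AddValuation.toValuation (ordVal (K := K) u)
  have hw : ∀ z, w z ≤ 1 ↔ 0 ≤ ord u z := fun z => Iff.rfl
  have h1 : IsIntegral w.integer z := by
    obtain ⟨p, hp, hpz⟩ := hz
    let f : R →+* w.integer := (algebraMap R K[P]).codRestrict w.integer fun r => (hw _).2 (hR r)
    refine ⟨p.map f, hp.map f, ?_⟩
    rw [Polynomial.eval₂_map]
    exact hpz
  exact (hw z).1 ((Valuation.integer.integers w).mem_of_integral h1)

theorem exists_of_isIntegral [IsDomain K[P]] {v : J → P →+ ℤ} [Algebra K[cone v] K[P]]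
    (halg : algebraMap K[cone v] K[P] = toGroup K (cone v)) {z : K[P]}
    (hz : IsIntegral K[cone v] z) : ∃ y, algebraMap K[cone v] K[P] y = z := by
  rw [halg]
  apply mem_range_toGroup_cone.2
  intro i
  refine ord_nonneg_of_isIntegral (v i) (fun r => ?_) hz
  rw [halg]
  exact mem_range_toGroup_cone.1 ⟨r, rfl⟩ i

/-- **Normality** of the toric rings. -/
theorem isIntegrallyClosed_cone (K : Type*) [Field K] [Module.Finite ℤ P] [Module.Free ℤ P]
    (v : J → P →+ ℤ) : IsIntegrallyClosed K[cone v] := by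
  let _ : Algebra K[cone v] K[P] := (toGroup K (cone v)).toAlgebra
  have h1 : FaithfulSMul K[cone v] K[P] :=
    (faithfulSMul_iff_algebraMap_injective _ _).2 (toGroup_injective _)
  have h2 : IsIntegrallyClosed K[P] := isIntegrallyClosed_group K
  have h3 : IsIntegrallyClosedIn K[cone v] K[P] := by
    rw [isIntegrallyClosedIn_iff]
    exact ⟨toGroup_injective _, fun hx => exists_of_isIntegral rfl hx⟩
  exact IsIntegrallyClosed.of_isIntegrallyClosed_of_isIntegrallyClosedIn (R := K[cone v]) (S := K[P])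

end normal

end K73.Toric
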