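import Groth.Agent.Resolve.K937.CmpThm
import Groth.Agent.Resolve.K73.TorBridge

/-!
# Centering a flexible Kummer chart at a point (node D0 of the S19921 project)

`main : K84.DParts.Center K`.
-/

set_option autoImplicit false
universe u

open CategoryTheory AlgebraicGeometry

namespace K73.CenterThm

open K84 K84.DParts K937.CmpThm

/-- smoothness over a localisation of the base -/
theorem smooth_of_away {R A B : Type*} [CommRing R] [CommRing A] [CommRing B] (f : R →+* A)
    (g : A →+* B) (r : R) (hf : @IsLocalization.Away R _ r A _ f.toAlgebra)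
    (h : (g.comp f).Smooth) : g.Smooth := by
  let _ : Algebra R A := f.toAlgebra
  let _ : Algebra A B := g.toAlgebra
  let _ : Algebra R B := (g.comp f).toAlgebra
  have : IsScalarTower R A B := IsScalarTower.of_algebraMap_eq' rfl
  have h1 : Algebra.Smooth R B := h
  have h2 : IsLocalization (Submonoid.powers r) A := hf
  have h3 : Algebra.FormallySmooth A B := Algebra.FormallySmooth.localization_base (R := R) (Submonoid.powers r)
  have h4 : Algebra.FiniteType R A := IsLocalization.finiteType_of_monoid_fg (Submonoid.powers r) A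
  have h5 : Algebra.FinitePresentation A B :=
    Algebra.FinitePresentation.of_restrict_scalars_finitePresentation R A B
  have h6 : Algebra.Smooth A B := ⟨h3, h5⟩
  exact h6

section
variable {K : Type u} [Field K] {X : Scheme.{u}} {p : X ⟶ Spec (CommRingCat.of K)} {ι : Type}
  {F : ι → X.IdealSheafData} {U : X.affineOpens}

theorem kmap_res (p : X ⟶ Spec (CommRingCat.of K)) {U V : X.Opens} (h : V ≤ U) (c : K) :
    X.presheaf.map (homOfLE h).op (Iface.kmap p U c) = Iface.kmap p V c := by
  simp only [Iface.kmap]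
  rw [← CommRingCat.comp_apply, Category.assoc]
  congr 3
  exact p.appLE_map (U := ⊤) (V := U) (by simp) (homOfLE h).op

/-- **D0**: centering a chart. -/
theorem main (K : Type u) [Field K] : Center K := by
  classical
  intro X p _ ι F U c x hx W hxW
  -- the labels through `x`
  let s : Finset c.I := Finset.univ.filter fun i => x ∉ (F (c.lab i)).support
  let I' := {i : c.I // x ∈ (F (c.lab i)).support}
  let v' : I' → c.P →+ ℤ := fun i => c.v i.1
  have hdual := K73.Toric.Dat.dual c.dat
  obtain ⟨ha, ha0, ha1⟩ := hdual.exists_compl s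
  let a : c.P := ∑ i ∈ s, c.dat.q i
  -- the monomial of `a`
  let ma : Tor.Alg K c.v := AddMonoidAlgebra.single ⟨a, ha⟩ 1
  have hma : ma = ∏ i ∈ s, Tor.mon K (c.dat.mem i) := by
    have : ∀ t : Finset c.I, (∏ i ∈ t, Tor.mon K (c.dat.mem i)) =
        (AddMonoidAlgebra.single (∑ i ∈ t, (⟨c.dat.q i, c.dat.mem i⟩ : Tor.cone c.v)) 1 :
          Tor.Alg K c.v) := fun t => by
      induction t using Finset.induction_on with
      | empty => rfl
      | insert i t hi ih =>
        rw [Finset.prod_insert hi, Finset.sum_insert hi, ih, Tor.mon,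
          AddMonoidAlgebra.single_mul_single, one_mul]
    rw [this]
    simp only [ma]
    congr 1
    apply Subtype.ext
    rw [AddSubmonoid.coe_finsetSum]
  have hunit : IsUnit (germψ c hx ma) := by
    rw [hma, map_prod, IsUnit.prod_iff]
    intro i hi
    have h1 : x ∉ (F (c.lab i)).support := (Finset.mem_filter.1 hi).2
    rw [mem_support_lab_iff c hx i, not_not] at h1
    exact h1
  -- the affine open
  have hxW' : x ∈ (W ⊓ X.basicOpen (c.ψ ma) : X.Opens) :=
    ⟨hxW, (X.mem_basicOpen _ x hx).2 hunit⟩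
  obtain ⟨g, hg, hxg⟩ := U.2.exists_basicOpen_le (V := W ⊓ X.basicOpen (c.ψ ma)) ⟨x, hxW'⟩ hx
  let U' : X.affineOpens := X.affineBasicOpen g
  have hle : (U'.1 : X.Opens) ≤ U.1 := X.basicOpen_le g
  let res : Γ(X, U.1) →+* Γ(X, U'.1) := (X.presheaf.map (homOfLE hle).op).hom
  have hresψ : ∀ y, res (c.ψ y) = (res.comp c.ψ) y := fun _ => rfl
  have hres : res.Smooth := by
    let _ : Algebra Γ(X, U.1) Γ(X, U'.1) := res.toAlgebra
    have : IsLocalization.Away g Γ(X, U'.1) := U.2.isLocalization_of_eq_basicOpen g (homOfLE hle) rfl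
    exact Algebra.Smooth.of_isLocalization_Away g
  have hu : IsUnit ((res.comp c.ψ) ma) := by
    have h1 : IsUnit (X.presheaf.map (homOfLE (X.basicOpen_le (c.ψ ma))).op (c.ψ ma)) :=
      X.toRingedSpace.isUnit_res_basicOpen (c.ψ ma)
    have h2 : U'.1 ≤ X.basicOpen (c.ψ ma) := hg.trans inf_le_right
    have h3 : res (c.ψ ma) = X.presheaf.map (homOfLE h2).op
        (X.presheaf.map (homOfLE (X.basicOpen_le (c.ψ ma))).op (c.ψ ma)) := by
      rw [← CommRingCat.comp_apply, ← Functor.map_comp]
      rfl
    change IsUnit (res (c.ψ ma))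
    rw [h3]
    exact h1.map (X.presheaf.map (homOfLE h2).op).hom
  -- the localised toric ring
  let D' : Tor.Dat v' :=
    { q := fun i => c.dat.q i.1
      pos := fun i => c.dat.pos i.1
      ne := fun i j h => c.dat.ne i.1 j.1 fun h' => h (Subtype.ext h')
      onto := fun i => c.dat.onto i.1 }
  have hcle : Tor.cone c.v ≤ Tor.cone v' := fun q hq i => hq i.1
  let inc : Tor.Alg K c.v →+* Tor.Alg K v' := Tor.incl K hcle
  let _ : Algebra (Tor.Alg K c.v) (Tor.Alg K v') := inc.toAlgebra
  have hloc : IsLocalization.Away ma (Tor.Alg K v') := by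
    have h1 : ∀ i : I', c.v i.1 a = 0 := fun i => ha0 i.1 fun h => (Finset.mem_filter.1 h).2 i.2
    have h2 : ∀ l, l ∉ Set.range (Subtype.val : I' → c.I) → 0 < c.v l a := fun l hl =>
      ha1 l (Finset.mem_filter.2 ⟨Finset.mem_univ l, fun h => hl ⟨⟨l, h⟩, rfl⟩⟩)
    exact @K73.Toric.isLocalization_comp c.I c.P _ K _ _ I' c.v Subtype.val inc.toAlgebra rfl a ha
      h1 h2
  let ψ' : Tor.Alg K v' →+* Γ(X, U'.1) := IsLocalization.Away.lift ma hu
  have hψ' : ψ'.comp inc = res.comp c.ψ := IsLocalization.Away.lift_comp ma hu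
  have hψ'' : ∀ y, ψ' (inc y) = res (c.ψ y) := fun y => DFunLike.congr_fun hψ' y
  have hinc : ∀ (q : c.P) (hq : q ∈ Tor.cone c.v) (r : K), inc (AddMonoidAlgebra.single ⟨q, hq⟩ r) =
      AddMonoidAlgebra.single ⟨q, hcle hq⟩ r := fun q hq r => by
    simp only [inc, Tor.incl]
    rw [AddMonoidAlgebra.mapDomainRingHom_apply, AddMonoidAlgebra.mapDomain_single]
    rfl
  have hsm : ψ'.Smooth := by
    refine smooth_of_away inc ψ' ma hloc ?_
    rw [hψ']
    exact c.smooth.comp hres
  have hmap : ∀ j, (F j).ideal U' = ((F j).ideal U).map res := fun j =>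
    ((F j).map_ideal_basicOpen U g).symm
  let c' : FChart p F U' :=
    { P := c.P
      I := I'
      v := v'
      lab := fun i => c.lab i.1
      lab_inj := fun i j h => Subtype.ext (c.lab_inj h)
      dat := D'
      ψ := ψ'
      ψ_k := fun r => by
        have h1 : (AddMonoidAlgebra.single 0 r : Tor.Alg K v') =
          inc (AddMonoidAlgebra.single 0 r) := (hinc 0 (AddSubmonoid.zero_mem _) r).symm
        rw [h1, hψ'', c.ψ_k]
        exact kmap_res p hle r
      smooth := hsm
      ideal_lab := fun i => by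
        rw [hmap, c.ideal_lab, Ideal.map_span, Set.image_singleton, ← hψ'', Tor.mon, hinc]
        rfl
      ideal_notMem := fun j hj => by
        rw [hmap]
        by_cases h : j ∈ Set.range c.lab
        · obtain ⟨i, rfl⟩ := h
          have hi : i ∈ s := Finset.mem_filter.2 ⟨Finset.mem_univ i, fun h => hj ⟨⟨i, h⟩, rfl⟩⟩
          rw [c.ideal_lab, Ideal.map_span, Set.image_singleton, Ideal.span_singleton_eq_top]
          rw [hma, map_prod, IsUnit.prod_iff] at hu
          exact hu i hi
        · rw [c.ideal_notMem j h, Ideal.map_top] }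
  refine ⟨U', c', AddEquiv.refl _, hxg, hle, hg.trans inf_le_left, fun i => i.2, fun i => ⟨i.1, rfl⟩,
    fun i i' h m => ?_, fun i i' h => ?_, ?_⟩
  · have : i = i'.1 := c.lab_inj h
    subst this; rfl
  · have : i = i'.1 := c.lab_inj h
    subst this; rfl
  · exact K73.Toric.mult_comp_le (v := c.v) (f := (Subtype.val : I' → c.I)) Subtype.val_injective
      (K73.Toric.tor_mult_ne_zero c.dat)

end

end K73.CenterThm
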