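import Groth.Agent.Resolve.K73.ToricSm

/-!
# Faces of toric rings

For a face `F` of a monoid `Q`, killing the monomials outside `F` is a surjective homomorphism
`K[Q] → K[F]`. For `Q = cone v` and `F = {v i = 0, i ∈ s}` the kernel is the radical of the ideal
generated by the `χ^(q i)`, `i ∈ s`, and the quotient is an integrally closed domain.
-/

set_option autoImplicit false

universe u

open AddMonoidAlgebra Function

namespace K73.Toric

variable {J P : Type*} [AddCommGroup P]

/-- `F` is a face of `Q` -/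
structure IsFace (F Q : AddSubmonoid P) : Prop where
  le : F ≤ Q
  mem : ∀ x ∈ Q, ∀ y ∈ Q, x + y ∈ F → x ∈ F

section general
variable {F Q : AddSubmonoid P} (h : IsFace F Q) (K : Type*) [CommRing K]

open Classical in
/-- the monoid homomorphism killing the monomials outside `F` -/
noncomputable def IsFace.monHom : Multiplicative Q →* K[F] where
  toFun q := if hq : (q.toAdd : P) ∈ F then single ⟨_, hq⟩ 1 else 0
  map_one' := by
    have : ((Multiplicative.toAdd (1 : Multiplicative Q) : Q) : P) ∈ F := F.zero_mem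
    rw [dif_pos this]; rfl
  map_mul' x y := by
    by_cases hx : (x.toAdd : P) ∈ F
    · by_cases hy : (y.toAdd : P) ∈ F
      · have hxy : ((x * y).toAdd : P) ∈ F := F.add_mem hx hy
        rw [dif_pos hx, dif_pos hy, dif_pos hxy, single_mul_single, one_mul]
        rfl
      · have hxy : ((x * y).toAdd : P) ∉ F := fun h' => hy (h.mem _ y.toAdd.2 _ x.toAdd.2
          (by rw [add_comm]; exact h'))
        rw [dif_neg hy, dif_neg hxy, mul_zero]
    · have hxy : ((x * y).toAdd : P) ∉ F := fun h' => hx (h.mem _ x.toAdd.2 _ y.toAdd.2 h')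
      rw [dif_neg hx, dif_neg hxy, zero_mul]

/-- the homomorphism killing the monomials outside `F` -/
noncomputable def faceHom : K[Q] →ₐ[K] K[F] := AddMonoidAlgebra.lift K K[F] Q (h.monHom K)

lemma faceHom_single_of_mem {q : P} (hq : q ∈ Q) (hF : q ∈ F) (r : K) :
    faceHom h K (single ⟨q, hq⟩ r) = single ⟨q, hF⟩ r := by
  have h1 : h.monHom K (Multiplicative.ofAdd ⟨q, hq⟩) = single ⟨q, hF⟩ 1 := dif_pos hF
  rw [faceHom, AddMonoidAlgebra.lift_single, h1, smul_single, smul_eq_mul, mul_one]

lemma faceHom_single_of_notMem {q : P} (hq : q ∈ Q) (hF : q ∉ F) (r : K) :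
    faceHom h K (single ⟨q, hq⟩ r) = 0 := by
  have h1 : h.monHom K (Multiplicative.ofAdd ⟨q, hq⟩) = 0 := dif_neg hF
  rw [faceHom, AddMonoidAlgebra.lift_single, h1, smul_zero]

lemma faceHom_incl (z : K[F]) : faceHom h K (incl K h.le z) = z := by
  induction z using AddMonoidAlgebra.induction_linear with
  | zero => simp
  | add x y hx hy => rw [map_add, map_add, hx, hy]
  | single q r =>
    rw [incl, mapDomainRingHom_apply, mapDomain_single]
    exact faceHom_single_of_mem h K (h.le q.2) q.2 r

lemma faceHom_surjective : Surjective (faceHom h K) := fun z => ⟨_, faceHom_incl h K z⟩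

lemma coeff_faceHom (z : K[Q]) (q : F) : (faceHom h K z).coeff q = z.coeff ⟨q, h.le q.2⟩ := by
  classical
  induction z using AddMonoidAlgebra.induction_linear with
  | zero => simp
  | add x y hx hy => rw [map_add, coeff_add, coeff_add, Finsupp.add_apply, Finsupp.add_apply, hx, hy]
  | single a r =>
    by_cases ha : (a : P) ∈ F
    · have := faceHom_single_of_mem h K a.2 ha r
      rw [show (single a r : K[Q]) = single ⟨(a : P), a.2⟩ r from rfl, this, coeff_single,
        coeff_single, Finsupp.single_apply, Finsupp.single_apply]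
      congr 1
      simp only [Subtype.ext_iff]
    · have := faceHom_single_of_notMem h K a.2 ha r
      rw [show (single a r : K[Q]) = single ⟨(a : P), a.2⟩ r from rfl, this, coeff_single,
        Finsupp.single_apply, if_neg]
      · simp
      · intro h'
        exact ha ((Subtype.ext_iff.1 h') ▸ q.2)

/-- the kernel is generated by the monomials outside `F` -/
theorem ker_faceHom_eq_span : RingHom.ker (faceHom h K) =
    Ideal.span {z | ∃ q : Q, (q : P) ∉ F ∧ z = single q 1} := by
  classical
  apply le_antisymm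
  · intro z hz
    rw [RingHom.mem_ker] at hz
    have hz' : ∀ q : Q, (q : P) ∈ F → z.coeff q = 0 := fun q hq => by
      have := coeff_faceHom h K z ⟨q, hq⟩
      rw [hz] at this
      simpa using this.symm
    have hsum : z = ∑ q ∈ z.coeff.support, single q (z.coeff q) := by
      ext q
      rw [coeff_sum, Finsupp.finsetSum_apply]
      simp only [coeff_single, Finsupp.single_apply]
      by_cases hq : q ∈ z.coeff.support
      · rw [Finset.sum_ite_eq' _ q, if_pos hq]
      · rw [Finset.sum_ite_eq' _ q, if_neg hq]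
        exact Finsupp.notMem_support_iff.1 hq
    rw [hsum]
    refine Ideal.sum_mem _ fun q hq => ?_
    have hqF : (q : P) ∉ F := fun h' => Finsupp.mem_support_iff.1 hq (hz' q h')
    have : (single q (z.coeff q) : K[Q]) = single 0 (z.coeff q) * single q 1 := by
      rw [single_mul_single, zero_add, mul_one]
    rw [this]
    exact Ideal.mul_mem_left _ _ (Ideal.subset_span ⟨q, hqF, rfl⟩)
  · rw [Ideal.span_le]
    rintro _ ⟨q, hq, rfl⟩
    exact faceHom_single_of_notMem h K q.2 hq 1

end general

/-! ### Faces of cones -/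

/-- the face `{v i = 0, i ∈ s}` of the cone -/
def face (v : J → P →+ ℤ) (s : Set J) : AddSubmonoid P :=
  cone (Sum.elim v fun i : s => -v i)

lemma mem_face {v : J → P →+ ℤ} {s : Set J} {q : P} :
    q ∈ face v s ↔ q ∈ cone v ∧ ∀ i ∈ s, v i q = 0 := by
  constructor
  · intro h
    refine ⟨fun i => h (Sum.inl i), fun i hi => ?_⟩
    have h1 : 0 ≤ v i q := h (Sum.inl i)
    have h2 : 0 ≤ -v i q := h (Sum.inr ⟨i, hi⟩)
    omega
  · rintro ⟨h1, h2⟩ (i | i)
    · exact h1 i
    · change 0 ≤ -v i q
      rw [h2 i i.2, neg_zero]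

lemma isFace (v : J → P →+ ℤ) (s : Set J) : IsFace (face v s) (cone v) where
  le q hq := (mem_face.1 hq).1
  mem x hx y hy hxy := by
    rw [mem_face] at hxy ⊢
    refine ⟨hx, fun i hi => ?_⟩
    have h1 := hxy.2 i hi
    rw [map_add] at h1
    have h2 := hx i
    have h3 := hy i
    omega

/-- the ideal of the stratum `∩_{i ∈ s} V(v i > 0)` -/
noncomputable def faceIdeal (K : Type*) [CommRing K] (v : J → P →+ ℤ) (s : Set J) :
    Ideal K[cone v] :=
  RingHom.ker (faceHom (isFace v s) K)

lemma single_mem_faceIdeal {K : Type*} [CommRing K] {v : J → P →+ ℤ} {s : Set J} {q : P}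
    (hq : q ∈ cone v) {i : J} (hi : i ∈ s) (hqi : 0 < v i q) (r : K) :
    single ⟨q, hq⟩ r ∈ faceIdeal K v s :=
  faceHom_single_of_notMem _ K hq (fun h => by
    have := (mem_face.1 h).2 i hi
    omega) r

lemma single_notMem_faceIdeal {K : Type*} [CommRing K] [Nontrivial K] {v : J → P →+ ℤ} {s : Set J}
    {q : P} (hq : q ∈ cone v) (h0 : ∀ i ∈ s, v i q = 0) :
    (single ⟨q, hq⟩ 1 : K[cone v]) ∉ faceIdeal K v s := by
  intro h
  rw [faceIdeal, RingHom.mem_ker, faceHom_single_of_mem _ K hq (mem_face.2 ⟨hq, h0⟩)] at h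
  have := congrArg (fun z => z.coeff ⟨q, mem_face.2 ⟨hq, h0⟩⟩) h
  simp at this

lemma faceIdeal_eq_span (K : Type*) [CommRing K] (v : J → P →+ ℤ) (s : Set J) :
    faceIdeal K v s =
      Ideal.span {z | ∃ q : cone v, (∃ i ∈ s, 0 < v i q) ∧ z = single q 1} := by
  rw [faceIdeal, ker_faceHom_eq_span]
  congr 1
  ext z
  simp only [Set.mem_ofPred_eq]
  refine exists_congr fun q => and_congr_left fun _ => ?_
  rw [mem_face]
  constructor
  · intro h
    by_contra hne
    push Not at hne
    exact h ⟨q.2, fun i hi => le_antisymm (hne i hi) (q.2 i)⟩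
  · rintro ⟨i, hi, hpos⟩ h
    exact hpos.ne' (h.2 i hi)

lemma faceIdeal_mono (K : Type*) [CommRing K] (v : J → P →+ ℤ) {s t : Set J} (hst : s ⊆ t) :
    faceIdeal K v s ≤ faceIdeal K v t := by
  rw [faceIdeal_eq_span, faceIdeal_eq_span]
  apply Ideal.span_mono
  rintro z ⟨q, ⟨i, hi, h⟩, rfl⟩
  exact ⟨q, ⟨i, hst hi, h⟩, rfl⟩

lemma faceIdeal_eq_iSup (K : Type*) [CommRing K] (v : J → P →+ ℤ) (s : Set J) :
    faceIdeal K v s = ⨆ i ∈ s, faceIdeal K v {i} := by
  apply le_antisymm
  · rw [faceIdeal_eq_span, Ideal.span_le]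
    rintro _ ⟨q, ⟨i, hi, h⟩, rfl⟩
    exact (le_iSup₂ (f := fun i (_ : i ∈ s) => faceIdeal K v {i}) i hi)
      (single_mem_faceIdeal q.2 (Set.mem_singleton i) h 1)
  · exact iSup₂_le fun i hi => faceIdeal_mono K v (Set.singleton_subset_iff.2 hi)

section domain
variable [Module.Finite ℤ P] [Module.Free ℤ P]

instance (K : Type*) [Field K] (v : J → P →+ ℤ) (s : Set J) : (faceIdeal K v s).IsPrime :=
  RingHom.ker_isPrime _

/-- the quotient is `K[face]` -/
noncomputable def faceEquiv (K : Type*) [CommRing K] (v : J → P →+ ℤ) (s : Set J) :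
    (K[cone v] ⧸ faceIdeal K v s) ≃+* K[face v s] :=
  RingHom.quotientKerEquivOfSurjective (faceHom_surjective (isFace v s) K)

theorem isIntegrallyClosed_quotient (K : Type*) [Field K] (v : J → P →+ ℤ) (s : Set J) :
    IsIntegrallyClosed (K[cone v] ⧸ faceIdeal K v s) := by
  have h1 : IsIntegrallyClosed K[face v s] := isIntegrallyClosed_cone K _
  exact IsIntegrallyClosed.of_equiv (faceEquiv K v s).symm

end domain

/-- the face ideal is the radical of the ideal generated by the dual monomials -/
theorem radical_span_eq_faceIdeal {K : Type*} [Field K] [Module.Finite ℤ P] [Module.Free ℤ P]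
    [Finite J] {v : J → P →+ ℤ} {q : J → P} (hq : Dual v q) (s : Set J) :
    (Ideal.span {z : K[cone v] | ∃ i ∈ s, z = single ⟨q i, hq.mem i⟩ 1}).radical =
      faceIdeal K v s := by
  apply le_antisymm
  · rw [(inferInstance : (faceIdeal K v s).IsPrime).isRadical.radical_le_iff, Ideal.span_le]
    rintro _ ⟨i, hi, rfl⟩
    exact single_mem_faceIdeal (hq.mem i) hi (hq.pos i) 1
  · rw [faceIdeal_eq_span, Ideal.span_le]
    rintro _ ⟨x, ⟨i, hi, hx⟩, rfl⟩
    -- `N x - q i ∈ cone`
    set m : ℕ := (v i (q i)).toNat with hm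
    have hmem : m • (x : P) - q i ∈ cone v := fun l => by
      rw [map_sub, map_nsmul, nsmul_eq_mul]
      by_cases hl : l = i
      · subst hl
        have h1 := hq.pos l
        have h2 : (m : ℤ) = v l (q l) := Int.toNat_of_nonneg h1.le
        rw [h2]
        nlinarith
      · rw [hq.ne i l hl, sub_zero]
        exact mul_nonneg (by positivity) (x.2 l)
    refine ⟨m, ?_⟩
    rw [single_pow, one_pow]
    have h1 : (single (m • x) (1 : K) : K[cone v]) =
        single ⟨_, hmem⟩ 1 * single ⟨q i, hq.mem i⟩ 1 := by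
      rw [single_mul_single, one_mul]
      congr 1
      apply Subtype.ext
      simp
    rw [h1]
    exact Ideal.mul_mem_left _ _ (Ideal.subset_span ⟨i, hi, rfl⟩)

end K73.Toric
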