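import Mathlib

/-!
# Simplicial toric charts: cones and multiplicities

`P` is a lattice, `v i : P →+ ℤ` finitely many linear forms, `cone v` the monoid where all of them
are non-negative, `mult v` the index of the image of `P` in `J → ℤ`.
-/

set_option autoImplicit false

namespace K73.Toric

open Function

variable {J P : Type*} [AddCommGroup P]

/-- The monoid of all `q` with `v i q ≥ 0` for all `i`. -/
def cone (v : J → P →+ ℤ) : AddSubmonoid P where
  carrier := {q | ∀ i, 0 ≤ v i q}
  zero_mem' := by intro i; simp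
  add_mem' := fun ha hb i => by rw [map_add]; exact add_nonneg (ha i) (hb i)

@[simp] lemma mem_cone {v : J → P →+ ℤ} {q : P} : q ∈ cone v ↔ ∀ i, 0 ≤ v i q := Iff.rfl

/-- The multiplicity: the index of the image of `P` in `J → ℤ`. -/
noncomputable def mult (v : J → P →+ ℤ) : ℕ := (AddMonoidHom.pi v).range.index

lemma mult_comp_dvd {J' : Type*} (v : J → P →+ ℤ) {f : J' → J} (hf : Injective f) :
    mult (fun i => v (f i)) ∣ mult v := by
  classical
  have hs : Surjective (AddMonoidHom.pi (fun i : J' => Pi.evalAddMonoidHom (fun _ : J => ℤ) (f i))) := by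
    intro x
    refine ⟨Function.extend f x 0, ?_⟩
    funext i
    change Function.extend f x 0 (f i) = x i
    rw [hf.extend_apply]
  have h := AddSubgroup.index_map_dvd (AddMonoidHom.pi v).range hs
  unfold mult
  convert h using 2
  ext x
  simp only [AddMonoidHom.mem_range, AddSubgroup.mem_map]
  constructor
  · rintro ⟨q, rfl⟩
    exact ⟨_, ⟨q, rfl⟩, rfl⟩
  · rintro ⟨_, ⟨q, rfl⟩, rfl⟩
    exact ⟨q, rfl⟩

lemma mult_comp_ne_zero {J' : Type*} {v : J → P →+ ℤ} {f : J' → J} (hf : Injective f)
    (h : mult v ≠ 0) : mult (fun i => v (f i)) ≠ 0 :=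
  fun h0 => h (Nat.eq_zero_of_zero_dvd (h0 ▸ mult_comp_dvd v hf))

lemma mult_comp_le {J' : Type*} {v : J → P →+ ℤ} {f : J' → J} (hf : Injective f)
    (h : mult v ≠ 0) : mult (fun i => v (f i)) ≤ mult v :=
  Nat.le_of_dvd (Nat.pos_of_ne_zero h) (mult_comp_dvd v hf)

section update
variable [Fintype J] [DecidableEq J]

/-- the endomorphism of `J → ℤ` replacing the `j`-th coordinate by `∑ n i x i` -/
def upd (n : J → ℕ) (j : J) : (J → ℤ) →+ (J → ℤ) where
  toFun x := update x j (∑ i, (n i : ℤ) * x i)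
  map_zero' := by
    ext i
    by_cases h : i = j
    · subst h; simp
    · simp [h]
  map_add' x y := by
    ext i
    by_cases h : i = j
    · subst h; simp [mul_add, Finset.sum_add_distrib]
    · simp [h]

lemma upd_injective (n : J → ℕ) {j : J} (hj : n j ≠ 0) : Injective (upd n j) := by
  rw [injective_iff_map_eq_zero]
  intro x hx
  have h1 : ∀ i, i ≠ j → x i = 0 := fun i hi => by
    have := congrFun hx i
    simpa [upd, hi] using this
  have h2 : ∑ i, (n i : ℤ) * x i = 0 := by
    have := congrFun hx j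
    simpa [upd] using this
  rw [Finset.sum_eq_single j (fun i _ hi => by rw [h1 i hi, mul_zero])
    (fun h => absurd (Finset.mem_univ j) h)] at h2
  funext i
  by_cases hi : i = j
  · subst hi
    rcases mul_eq_zero.1 h2 with h | h
    · exact absurd (by exact_mod_cast h) hj
    · exact h
  · exact h1 i hi

lemma index_range_upd (n : J → ℕ) {j : J} (hj : n j ≠ 0) : (upd n j).range.index = n j := by
  let ψ : (J → ℤ) →+ ZMod (n j) :=
    (Int.castAddHom (ZMod (n j))).comp
      { toFun := fun y => y j - ∑ i ∈ Finset.univ.erase j, (n i : ℤ) * y i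
        map_zero' := by simp
        map_add' := fun x y => by
          simp only [Pi.add_apply, mul_add, Finset.sum_add_distrib]; ring }
  have hψ : ∀ y, ψ y = ((y j - ∑ i ∈ Finset.univ.erase j, (n i : ℤ) * y i : ℤ) : ZMod (n j)) :=
    fun y => rfl
  have hk : (upd n j).range = ψ.ker := by
    ext y
    rw [AddMonoidHom.mem_ker, hψ, ZMod.intCast_zmod_eq_zero_iff_dvd]
    constructor
    · rintro ⟨x, rfl⟩
      refine ⟨x j, ?_⟩
      have : ∑ i ∈ Finset.univ.erase j, (n i : ℤ) * (upd n j x) i
          = ∑ i ∈ Finset.univ.erase j, (n i : ℤ) * x i :=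
        Finset.sum_congr rfl fun i hi => by simp [upd, Finset.ne_of_mem_erase hi]
      rw [this]
      change update x j (∑ i, (n i : ℤ) * x i) j - _ = _
      rw [update_self, ← Finset.add_sum_erase _ _ (Finset.mem_univ j)]
      ring
    · rintro ⟨c, hc⟩
      refine ⟨update y j c, ?_⟩
      funext i
      change update (update y j c) j (∑ i, (n i : ℤ) * (update y j c) i) i = y i
      by_cases h : i = j
      · subst h
        rw [update_self, ← Finset.add_sum_erase _ _ (Finset.mem_univ i), update_self, ← hc]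
        have : ∑ l ∈ Finset.univ.erase i, (n l : ℤ) * (update y i c) l
            = ∑ l ∈ Finset.univ.erase i, (n l : ℤ) * y l :=
          Finset.sum_congr rfl fun l hl => by simp [Finset.ne_of_mem_erase hl]
        rw [this]; ring
      · simp [h]
  have hs : Surjective ψ := by
    intro z
    obtain ⟨c, rfl⟩ := ZMod.intCast_surjective z
    refine ⟨Pi.single j c, ?_⟩
    rw [hψ]
    congr 1
    rw [Finset.sum_eq_zero, Pi.single_eq_same, sub_zero]
    intro i hi
    rw [Pi.single_eq_of_ne (Finset.ne_of_mem_erase hi), mul_zero]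
  rw [hk, AddSubgroup.index_ker, AddMonoidHom.range_eq_top.2 hs]
  have : NeZero (n j) := ⟨hj⟩
  rw [AddSubgroup.card_top, Nat.card_eq_fintype_card, ZMod.card]

/-- **Multiplicity of a star subdivision.** If `d w = ∑ n i v i`, replacing `v j` by `w` multiplies
the multiplicity by `n j / d`. -/
theorem mult_update (v : J → P →+ ℤ) (w : P →+ ℤ) {d : ℕ} (hd : d ≠ 0) (n : J → ℕ) {j : J}
    (hj : n j ≠ 0) (hw : d • w = ∑ i, n i • v i) :
    d * mult (update v j w) = n j * mult v := by
  have hwq : ∀ q, (d : ℤ) * w q = ∑ i, (n i : ℤ) * v i q := fun q => by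
    have := DFunLike.congr_fun hw q
    simpa [AddMonoidHom.finsetSum_apply, nsmul_eq_mul] using this
  -- `upd n j ∘ v = D ∘ v'`
  let D : J → ℕ := update 0 j d
  have hD : D j ≠ 0 := by simpa [D] using hd
  have h1 : (upd n j).comp (AddMonoidHom.pi v) = (upd D j).comp (AddMonoidHom.pi (update v j w)) := by
    ext q i
    change update (fun i => v i q) j (∑ i, (n i : ℤ) * v i q) i
      = update (fun i => update v j w i q) j (∑ i, (D i : ℤ) * update v j w i q) i
    by_cases h : i = j
    · subst h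
      rw [update_self, update_self, ← hwq, Finset.sum_eq_single i]
      · simp [D]
      · intro l _ hl
        simp [D, hl]
      · intro h; exact absurd (Finset.mem_univ _) h
    · simp [h]
  have h2 : ((AddMonoidHom.pi v).range.map (upd n j)).index
      = ((AddMonoidHom.pi (update v j w)).range.map (upd D j)).index := by
    rw [← AddMonoidHom.range_comp, ← AddMonoidHom.range_comp, h1]
  rw [AddSubgroup.index_map_of_injective _ (upd_injective n hj),
    AddSubgroup.index_map_of_injective _ (upd_injective D hD), index_range_upd n hj,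
    index_range_upd D hD] at h2
  have h3 : D j = d := by simp [D]
  rw [h3] at h2
  unfold mult
  rw [mul_comm, ← h2, mul_comm]

theorem mult_update_ne_zero {v : J → P →+ ℤ} {w : P →+ ℤ} {d : ℕ} (hd : d ≠ 0) {n : J → ℕ} {j : J}
    (hj : n j ≠ 0) (hw : d • w = ∑ i, n i • v i) (hv : mult v ≠ 0) :
    mult (update v j w) ≠ 0 := by
  intro h
  have := mult_update v w hd n hj hw
  rw [h, mul_zero] at this
  rcases Nat.mul_eq_zero.1 this.symm with h | h
  exacts [hj h, hv h]

theorem mult_update_lt {v : J → P →+ ℤ} {w : P →+ ℤ} {d : ℕ} {n : J → ℕ} {j : J}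
    (hj : n j ≠ 0) (hjd : n j < d) (hw : d • w = ∑ i, n i • v i) (hv : mult v ≠ 0) :
    mult (update v j w) < mult v := by
  have hd : d ≠ 0 := by omega
  have := mult_update v w hd n hj hw
  by_contra hlt
  push Not at hlt
  have h1 : d * mult v ≤ n j * mult v := this ▸ Nat.mul_le_mul_left d hlt
  exact absurd (Nat.le_of_mul_le_mul_right h1 (Nat.pos_of_ne_zero hv)) (by omega)

end update

/-! ### Lifting and existence of subdivision vectors -/

lemma exists_lift (v : J → P →+ ℤ) (x : J → ℤ) : ∃ q : P, ∀ i, v i q = mult v * x i := by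
  obtain ⟨q, hq⟩ := AddSubgroup.nsmul_index_mem (AddMonoidHom.pi v).range x
  refine ⟨q, fun i => ?_⟩
  have := congrFun hq i
  simpa [mult, nsmul_eq_mul] using this

lemma exists_single [DecidableEq J] (v : J → P →+ ℤ) (i : J) (c : ℤ) :
    ∃ q : P, v i q = mult v * c ∧ ∀ l, l ≠ i → v l q = 0 := by
  obtain ⟨q, hq⟩ := exists_lift v (Pi.single i c)
  refine ⟨q, by rw [hq, Pi.single_eq_same], fun l hl => ?_⟩
  rw [hq, Pi.single_eq_of_ne hl, mul_zero]

/-- a nonzero form is a positive multiple of a surjective one -/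
lemma exists_surjective_smul {w : P →+ ℤ} (hw : w ≠ 0) :
    ∃ (g : ℕ) (w' : P →+ ℤ), g ≠ 0 ∧ Surjective w' ∧ w = g • w' := by
  obtain ⟨a, ha⟩ := Int.subgroup_cyclic w.range
  have ha0 : a ≠ 0 := by
    rintro rfl
    apply hw
    ext q
    have : w q ∈ w.range := ⟨q, rfl⟩
    rw [ha, AddSubgroup.mem_closure_singleton] at this
    obtain ⟨n, hn⟩ := this
    simpa using hn.symm
  have hdvd : ∀ q, (a.natAbs : ℤ) ∣ w q := fun q => by
    have h : w q ∈ w.range := ⟨q, rfl⟩
    rw [ha, AddSubgroup.mem_closure_singleton] at h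
    obtain ⟨n, hn⟩ := h
    rw [← hn, Int.natAbs_dvd]
    exact ⟨n, by simp [mul_comm]⟩
  have hg : (a.natAbs : ℤ) ≠ 0 := by simpa using ha0
  refine ⟨a.natAbs, ⟨⟨fun q => w q / a.natAbs, by simp⟩, fun x y => ?_⟩, by simpa using ha0, ?_, ?_⟩
  · change w (x + y) / _ = w x / _ + w y / _
    rw [map_add, Int.add_ediv_of_dvd_left (hdvd x)]
  · have h : a.natAbs • (1 : ℤ) ∈ w.range := by
      rw [ha, AddSubgroup.mem_closure_singleton]
      refine ⟨a.sign, ?_⟩
      simp [Int.sign_mul_self]
    obtain ⟨q, hq⟩ := h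
    intro z
    refine ⟨z • q, ?_⟩
    change w (z • q) / _ = z
    rw [map_zsmul, hq]
    simp only [nsmul_eq_mul, mul_one, smul_eq_mul]
    exact Int.mul_ediv_cancel _ hg
  · ext q
    change w q = a.natAbs • (w q / a.natAbs)
    rw [nsmul_eq_mul, Int.mul_ediv_cancel' (hdvd q)]

/-- **Existence of a star subdivision** which lowers the multiplicity. -/
theorem exists_star [Fintype J] {v : J → P →+ ℤ} (hv : mult v ≠ 0) (h1 : mult v ≠ 1) :
    ∃ (w : P →+ ℤ) (d : ℕ) (n : J → ℕ), Surjective w ∧ d • w = ∑ i, n i • v i ∧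
      (∀ i, n i < d) ∧ ∃ i, n i ≠ 0 := by
  classical
  set L := (AddMonoidHom.pi v).range with hL
  have hfi : L.FiniteIndex := ⟨hv⟩
  have hfin : Finite ((J → ℤ) ⧸ L) := AddSubgroup.finite_quotient_of_finiteIndex
  obtain ⟨ι, _, N, hN, ⟨e⟩⟩ := AddCommGroup.equiv_directSum_zmod_of_finite' ((J → ℤ) ⧸ L)
  have hne : Nonempty ι := by
    by_contra h
    rw [not_nonempty_iff] at h
    have h2 : Subsingleton ((J → ℤ) ⧸ L) := by
      have : Subsingleton (DirectSum ι fun i => ZMod (N i)) :=
        ⟨fun a b => by ext i; exact (h.false i).elim⟩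
      exact e.toEquiv.subsingleton
    apply h1
    exact Nat.card_of_subsingleton (0 : (J → ℤ) ⧸ L)
  obtain ⟨k⟩ := hne
  let f : (J → ℤ) →+ ZMod (N k) :=
    ((DFinsupp.evalAddMonoidHom k).comp e.toAddMonoidHom).comp (QuotientAddGroup.mk' L)
  have hf : Surjective f := by
    intro z
    obtain ⟨x, hx⟩ := QuotientAddGroup.mk'_surjective L (e.symm (DirectSum.of _ k z))
    refine ⟨x, ?_⟩
    change (e (QuotientAddGroup.mk' L x)) k = z
    rw [hx, AddEquiv.apply_symm_apply, DirectSum.of_eq_same]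
  have hfL : ∀ x ∈ L, f x = 0 := fun x hx => by
    have : QuotientAddGroup.mk' L x = 0 := (QuotientAddGroup.eq_zero_iff x).2 hx
    change (e (QuotientAddGroup.mk' L x)) k = 0
    rw [this, map_zero]; rfl
  have hN1 : NeZero (N k) := ⟨by have := hN k; omega⟩
  let n : J → ℕ := fun i => (f (Pi.single i 1)).val
  have hnlt : ∀ i, n i < N k := fun i => ZMod.val_lt _
  have hfx : ∀ x : J → ℤ, f x = ((∑ i, (n i : ℤ) * x i : ℤ) : ZMod (N k)) := fun x => by
    have hx : x = ∑ i, x i • (Pi.single i 1 : J → ℤ) := by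
      funext l
      rw [Finset.sum_apply]
      simp [Pi.single_apply]
    conv_lhs => rw [hx]
    rw [map_sum, Int.cast_sum]
    refine Finset.sum_congr rfl fun i _ => ?_
    rw [map_zsmul, Int.cast_mul, Int.cast_natCast, ZMod.natCast_zmod_val, zsmul_eq_mul, mul_comm]
  have hdvd : ∀ q, (N k : ℤ) ∣ ∑ i, (n i : ℤ) * v i q := fun q => by
    have h := hfL _ ⟨q, rfl⟩
    rw [hfx, ZMod.intCast_zmod_eq_zero_iff_dvd] at h
    exact h
  have hn0 : ∃ i, n i ≠ 0 := by
    by_contra h
    push Not at h
    obtain ⟨x, hx⟩ := hf 1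
    rw [hfx] at hx
    simp only [h, Nat.cast_zero, zero_mul, Finset.sum_const_zero, Int.cast_zero] at hx
    have : Fact (1 < N k) := ⟨hN k⟩
    exact zero_ne_one hx
  have hNk : (N k : ℤ) ≠ 0 := by have := hN k; omega
  let w0 : P →+ ℤ := ⟨⟨fun q => (∑ i, (n i : ℤ) * v i q) / N k, by simp⟩, fun x y => by
    change (∑ i, (n i : ℤ) * v i (x + y)) / (N k : ℤ) = (∑ i, (n i : ℤ) * v i x) / (N k : ℤ) +
      (∑ i, (n i : ℤ) * v i y) / (N k : ℤ)
    rw [← Int.add_ediv_of_dvd_left (hdvd x), ← Finset.sum_add_distrib]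
    simp [mul_add]⟩
  have hw0 : ∀ q, (N k : ℤ) * w0 q = ∑ i, (n i : ℤ) * v i q := fun q =>
    Int.mul_ediv_cancel' (hdvd q)
  have hw0' : w0 ≠ 0 := by
    intro h0
    obtain ⟨i, hi⟩ := hn0
    obtain ⟨q, hq, hq'⟩ := exists_single v i 1
    have h := hw0 q
    rw [h0, AddMonoidHom.zero_apply, mul_zero,
      Finset.sum_eq_single i (fun l _ hl => by rw [hq' l hl, mul_zero])
        (fun h => absurd (Finset.mem_univ i) h), hq, mul_one] at h
    rcases mul_eq_zero.1 h.symm with h | h
    · exact hi (by exact_mod_cast h)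
    · exact hv (by exact_mod_cast h)
  obtain ⟨g, w, hg, hw, hgw⟩ := exists_surjective_smul hw0'
  refine ⟨w, N k * g, n, hw, ?_, fun i => (hnlt i).trans_le (Nat.le_mul_of_pos_right _ (by omega)), hn0⟩
  ext q
  have h := hw0 q
  rw [hgw] at h
  simp only [AddMonoidHom.smul_apply, AddMonoidHom.finsetSum_apply, nsmul_eq_mul] at h ⊢
  rw [← h]; push_cast; ring

end K73.Toric
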