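import Groth.Agent.Resolve.K73.ToricStar
import Mathlib.RingTheory.RingHom.Smooth

/-!
# Dual vectors, restricted families and the case of multiplicity one
-/

set_option autoImplicit false

universe u

open AddMonoidAlgebra Function

namespace K73.Toric

variable {J P : Type*} [AddCommGroup P]

/-- dual vectors up to positive multiples -/
structure Dual (v : J → P →+ ℤ) (q : J → P) : Prop where
  pos : ∀ i, 0 < v i (q i)
  ne : ∀ i l, l ≠ i → v l (q i) = 0

namespace Dual
variable {v : J → P →+ ℤ} {q : J → P}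

lemma mem (h : Dual v q) (i : J) : q i ∈ cone v := by
  intro l
  by_cases hl : l = i
  · subst hl; exact (h.pos l).le
  · rw [h.ne i l hl]

lemma comp {J' : Type*} (h : Dual v q) {f : J' → J} (hf : Injective f) :
    Dual (fun i => v (f i)) (fun i => q (f i)) :=
  ⟨fun i => h.pos (f i), fun i l hl => h.ne _ _ (hf.ne hl)⟩

end Dual

lemma Dual.mult_ne_zero [Finite J] {v : J → P →+ ℤ} {q : J → P} (h : Dual v q) : mult v ≠ 0 := by
  classical
  have := Fintype.ofFinite J
  -- a common multiple
  set M : ℕ := ∏ i, (v i (q i)).toNat with hM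
  have hM0 : M ≠ 0 := Finset.prod_ne_zero_iff.2 fun i _ => by have := h.pos i; omega
  have hdvd : ∀ i, (v i (q i)) ∣ (M : ℤ) := fun i => by
    have h1 : (v i (q i)).toNat ∣ M := Finset.dvd_prod_of_mem _ (Finset.mem_univ i)
    have h2 : ((v i (q i)).toNat : ℤ) ∣ (M : ℤ) := by exact_mod_cast h1
    rwa [Int.toNat_of_nonneg (h.pos i).le] at h2
  choose k hk using hdvd
  have hmem : ∀ x : J → ℤ, M • x ∈ (AddMonoidHom.pi v).range := fun x => by
    refine ⟨∑ i, (x i * k i) • q i, ?_⟩
    funext l
    change v l _ = _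
    rw [map_sum, Finset.sum_eq_single l]
    · rw [map_zsmul, smul_eq_mul, Pi.smul_apply, nsmul_eq_mul, hk l]; ring
    · intro i _ hi; rw [map_zsmul, h.ne i l hi.symm, smul_zero]
    · intro h; exact absurd (Finset.mem_univ l) h
  -- `ℤ^J / M ℤ^J` is finite
  have hfin : Finite ((J → ℤ) ⧸ (AddMonoidHom.pi v).range) := by
    have hM1 : NeZero M := ⟨hM0⟩
    let f : (J → ZMod M) → (J → ℤ) ⧸ (AddMonoidHom.pi v).range :=
      fun z => QuotientAddGroup.mk' _ fun i => ((z i).val : ℤ)
    refine Finite.of_surjective f fun y => ?_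
    obtain ⟨x, rfl⟩ := QuotientAddGroup.mk'_surjective _ y
    refine ⟨fun i => (x i : ZMod M), ?_⟩
    rw [← sub_eq_zero]
    simp only [f]
    rw [← map_sub, QuotientAddGroup.mk'_apply, QuotientAddGroup.eq_zero_iff]
    have h2 : ∀ i, (M : ℤ) ∣ (((x i : ZMod M)).val : ℤ) - x i := fun i => by
      rw [← ZMod.intCast_zmod_eq_zero_iff_dvd]; simp
    choose y hy using h2
    have h3 : (fun i => (((x i : ZMod M)).val : ℤ)) - x = M • y := by
      funext i
      rw [Pi.sub_apply, hy, Pi.smul_apply, nsmul_eq_mul]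
    rw [h3]
    exact hmem y
  unfold mult AddSubgroup.index
  exact Nat.card_pos.ne'

lemma exists_dual {v : J → P →+ ℤ} (hv : mult v ≠ 0) : ∃ q, Dual v q := by
  classical
  choose q hq hq' using fun i => exists_single v i 1
  refine ⟨q, fun i => ?_, hq'⟩
  rw [hq, mul_one]; exact_mod_cast Nat.pos_of_ne_zero hv

/-- dual vectors of a star subdivision -/
theorem Star.dual [Fintype J] [DecidableEq J] {v : J → P →+ ℤ} {w : P →+ ℤ} {d : ℕ} {n : J → ℕ}
    {c : J → ℤ} {N : ℕ} {a : J → P} (h : Star v w d n c N a) {j : J} (hj : n j ≠ 0) {q : J → P}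
    (hq : Dual v q) :
    Dual (update v j w) (fun i => if i = j then a j else if n i = 0 then q i else a i - a j) := by
  have hwj : 0 < w (a j) := by
    have h1 := h.w_a hj
    have h2 : (0 : ℤ) < d * w (a j) := by rw [h1]; exact_mod_cast h.hN
    exact (pos_iff_pos_of_mul_pos h2).1 h.d_pos
  refine ⟨fun i => ?_, fun i l hl => ?_⟩
  · split_ifs with h1 h2
    · subst h1; rwa [update_self]
    · rw [update_of_ne h1]; exact hq.pos i
    · rw [update_of_ne h1, map_sub, h.ha' j hj i h1, sub_zero, h.ha i h2]
      exact h.c_pos h2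
  · split_ifs with h1 h2
    · subst h1; rw [update_of_ne hl]; exact h.ha' i hj l hl
    · by_cases h3 : l = j
      · subst h3
        rw [update_self]
        have h4 := h.w_apply (q i)
        rw [Finset.sum_eq_zero] at h4
        · rcases mul_eq_zero.1 h4 with h5 | h5
          · exact absurd h5 h.d_pos.ne'
          · exact h5
        · intro m _
          by_cases hm : m = i
          · subst hm; simp [h2]
          · rw [hq.ne i m hm, mul_zero]
      · rw [update_of_ne h3]; exact hq.ne i l hl
    · by_cases h3 : l = j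
      · subst h3
        rw [update_self, map_sub]
        have h4 := (h.w_a h2).trans (h.w_a hj).symm
        rw [mul_left_cancel₀ h.d_pos.ne' h4, sub_self]
      · rw [update_of_ne h3, map_sub, h.ha' i h2 l hl, h.ha' j hj l h3, sub_zero]

/-! ### Restricting the family -/

lemma cone_le_comp {J' : Type*} (v : J → P →+ ℤ) (f : J' → J) : cone v ≤ cone fun i => v (f i) :=
  fun _ hq i => hq (f i)

/-- inverting a monomial on the complement -/
theorem isLocalization_comp {K : Type*} [CommRing K] [Finite J] {J' : Type*} (v : J → P →+ ℤ)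
    (f : J' → J) [Algebra K[cone v] K[cone fun i => v (f i)]]
    (halg : algebraMap K[cone v] K[cone fun i => v (f i)] = incl K (cone_le_comp v f))
    (a : P) (ha : a ∈ cone v) (ha0 : ∀ i, v (f i) a = 0) (ha1 : ∀ l, l ∉ Set.range f → 0 < v l a) :
    IsLocalization.Away (single ⟨a, ha⟩ 1 : K[cone v]) K[cone fun i => v (f i)] := by
  refine isLocalization_cone (cone_le_comp v f) halg a ha (fun i => ?_) fun l => ?_
  · rw [map_neg, ha0, neg_zero]
  · by_cases hl : l ∈ Set.range f
    · obtain ⟨i, rfl⟩ := hl
      exact Or.inr fun q hq => hq i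
    · exact Or.inl (ha1 l hl)

/-- a complementary exponent -/
lemma Dual.exists_compl [Fintype J] [DecidableEq J] {v : J → P →+ ℤ} {q : J → P} (h : Dual v q)
    (s : Finset J) : (∑ i ∈ s, q i) ∈ cone v ∧ (∀ l ∉ s, v l (∑ i ∈ s, q i) = 0) ∧
      ∀ l ∈ s, 0 < v l (∑ i ∈ s, q i) := by
  refine ⟨AddSubmonoid.sum_mem _ fun i _ => h.mem i, fun l hl => ?_, fun l hl => ?_⟩
  · rw [map_sum]
    exact Finset.sum_eq_zero fun i hi => h.ne i l fun h' => hl (h' ▸ hi)
  · rw [map_sum]
    exact Finset.sum_pos' (fun i _ => h.mem i l) ⟨l, hl, h.pos l⟩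

/-! ### Multiplicity one -/

section one

/-- the group algebra of a lattice is smooth -/
theorem smooth_group (K : Type u) [CommRing K] (L : Type*) [AddCommGroup L] [Module.Finite ℤ L]
    [Module.Free ℤ L] : Algebra.Smooth K K[L] := by
  classical
  let ι := Module.Free.ChooseBasisIndex ℤ L
  have : Fintype ι := inferInstance
  let b : Module.Basis ι ℤ L := Module.Free.chooseBasis ℤ L
  let f : (ι →₀ ℕ) →+ L :=
    b.repr.symm.toLinearMap.toAddMonoidHom.comp (Finsupp.mapRange.addMonoidHom (Nat.castAddMonoidHom ℤ))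
  have hf : Injective f := b.repr.symm.injective.comp
    (Finsupp.mapRange_injective _ (by simp) Nat.cast_injective)
  let a : ι →₀ ℕ := Finsupp.equivFunOnFinite.symm fun _ => 1
  let _ : Algebra K[ι →₀ ℕ] K[L] := (mapDomainRingHom K f).toAlgebra
  have hloc : IsLocalization.Away (single a 1 : K[ι →₀ ℕ]) K[L] := by
    refine isLocalization_away f hf rfl a (-f a) (by simp) fun q' => ?_
    refine ⟨∑ i, (b.repr q' i).natAbs, Finsupp.equivFunOnFinite.symm fun i =>
      (b.repr q' i + ∑ i, (b.repr q' i).natAbs).toNat, ?_⟩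
    apply b.repr.injective
    ext i
    have h0 : (0 : ℤ) ≤ b.repr q' i + ∑ i, (b.repr q' i).natAbs := by
      have h1 : (b.repr q' i).natAbs ≤ ∑ i, (b.repr q' i).natAbs :=
        Finset.single_le_sum (f := fun i => (b.repr q' i).natAbs) (fun _ _ => Nat.zero_le _)
          (Finset.mem_univ i)
      omega
    simp only [f, a, map_add, map_nsmul, AddMonoidHom.comp_apply, LinearMap.toAddMonoidHom_coe,
      LinearEquiv.coe_coe, LinearEquiv.apply_symm_apply, Finsupp.add_apply, Finsupp.smul_apply,
      Finsupp.mapRange.addMonoidHom_apply, Finsupp.mapRange_apply, Nat.coe_castAddMonoidHom,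
      Finsupp.equivFunOnFinite_symm_apply_apply, Nat.cast_one, nsmul_eq_mul, mul_one]
    rw [Int.toNat_of_nonneg h0]
  have h1 : Algebra.Smooth K (MvPolynomial ι K) := {}
  have h2 : Algebra.Smooth K K[ι →₀ ℕ] := h1
  have h3 : Algebra.Smooth K[ι →₀ ℕ] K[L] := Algebra.Smooth.of_isLocalization_Away (single a 1)
  have h4 : IsScalarTower K K[ι →₀ ℕ] K[L] := IsScalarTower.of_algebraMap_eq fun k => by
    change single 0 k = mapDomainRingHom K f (single 0 k)
    rw [mapDomainRingHom_apply, mapDomain_single, map_zero]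
  exact Algebra.Smooth.comp K K[ι →₀ ℕ] K[L]

/-- dual vectors for multiplicity one -/
lemma exists_dual_one {v : J → P →+ ℤ} (hv : mult v = 1) :
    ∃ e : J → P, (∀ i, v i (e i) = 1) ∧ ∀ i l, l ≠ i → v l (e i) = 0 := by
  classical
  choose q hq hq' using fun i => exists_single v i 1
  exact ⟨q, fun i => by rw [hq, hv]; simp, hq'⟩

variable [Finite J] [Module.Finite ℤ P] [Module.Free ℤ P] (K : Type u) [CommRing K]

/-- **Multiplicity one**: the toric ring is smooth over the polynomial ring. -/
theorem smooth_mv {v : J → P →+ ℤ} (e : J → cone v) (he : ∀ i, v i (e i) = 1)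
    (he' : ∀ i l, l ≠ i → v l (e i) = 0) :
    (MvPolynomial.eval₂Hom (algebraMap K K[cone v]) (fun i => single (e i) 1) :
      MvPolynomial J K →+* K[cone v]).Smooth := by
  classical
  have := Fintype.ofFinite J
  let L := AddSubgroup.toIntSubmodule (lin v)
  let ι := Module.Free.ChooseBasisIndex ℤ L
  have : Fintype ι := inferInstance
  let b : Module.Basis ι ℤ L := Module.Free.chooseBasis ℤ L
  have hbv : ∀ (x : L) (i : J), v i x = 0 := fun x i => mem_lin.1 x.2 i
  let g : (ι ⊕ J →₀ ℕ) →+ P := Finsupp.liftAddHom (Sum.elim (fun i => (multiplesHom P (b i : P)))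
    (fun i => multiplesHom P (e i : P)))
  have hg : ∀ x, g x = ∑ i, x (Sum.inl i) • (b i : P) + ∑ i, x (Sum.inr i) • (e i : P) := fun x => by
    simp only [g, Finsupp.liftAddHom_apply]
    rw [Finsupp.sum_fintype _ _ (fun i => by rcases i with i | i <;> simp)]
    rw [Fintype.sum_sum_type]
    simp
  have hve : ∀ (y : J → ℤ) l, v l (∑ i, y i • (e i : P)) = y l := fun y l => by
    rw [map_sum, Finset.sum_eq_single l]
    · rw [map_zsmul, he, smul_eq_mul, mul_one]
    · intro i _ hi; rw [map_zsmul, he' i l hi.symm, smul_zero]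
    · intro h; exact absurd (Finset.mem_univ l) h
  have hvb : ∀ (y : ι → ℤ) l, v l (∑ i, y i • (b i : P)) = 0 := fun y l => by
    rw [map_sum]
    exact Finset.sum_eq_zero fun i _ => by rw [map_zsmul, hbv, smul_zero]
  have hvg : ∀ x l, v l (g x) = x (Sum.inr l) := fun x l => by
    have h1 := hve (fun i => (x (Sum.inr i) : ℤ)) l
    have h2 := hvb (fun i => (x (Sum.inl i) : ℤ)) l
    simp only [natCast_zsmul] at h1 h2
    rw [hg, map_add, h1, h2, zero_add]
  let f : (ι ⊕ J →₀ ℕ) →+ cone v := g.codRestrict (cone v) fun x l => by rw [hvg]; positivity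
  have hf : Injective f := by
    intro x y hxy
    have h1 : g x = g y := congrArg Subtype.val hxy
    have h2 : ∀ l, x (Sum.inr l) = y (Sum.inr l) := fun l => by
      have := congrArg (v l) h1
      rw [hvg, hvg] at this
      exact_mod_cast this
    have h3 : ∑ i, (x (Sum.inl i) : ℤ) • b i = ∑ i, (y (Sum.inl i) : ℤ) • b i := by
      apply Subtype.ext
      rw [hg, hg] at h1
      simp only [h2] at h1
      have := add_right_cancel h1
      simpa using this
    have h4 : ∀ i, x (Sum.inl i) = y (Sum.inl i) := fun i => by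
      have := congrArg (fun z => b.repr z i) h3
      simp only [map_sum, map_zsmul, Module.Basis.repr_self, Finsupp.coe_finsetSum, Finset.sum_apply,
        Finsupp.smul_apply, Finsupp.single_apply, smul_eq_mul, mul_ite, mul_one, mul_zero,
        Finset.sum_ite_eq', Finset.mem_univ, if_true] at this
      exact_mod_cast this
    ext i
    rcases i with i | i
    exacts [h4 i, h2 i]
  let a : ι ⊕ J →₀ ℕ := Finsupp.equivFunOnFinite.symm (Sum.elim (fun _ => 1) fun _ => 0)
  let _ : Algebra K[ι ⊕ J →₀ ℕ] K[cone v] := (mapDomainRingHom K f).toAlgebra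
  have hloc : IsLocalization.Away (single a 1 : K[ι ⊕ J →₀ ℕ]) K[cone v] := by
    have hgl : g a ∈ lin v := by rw [mem_lin]; intro l; rw [hvg]; simp [a]
    refine isLocalization_away f hf rfl a ⟨-g a, fun l => by
      rw [map_neg, mem_lin.1 hgl, neg_zero]⟩ (Subtype.ext (add_neg_cancel (g a))) fun q' => ?_
    -- decomposition of `q'`
    let l' : P := q' - ∑ i, v i q' • (e i : P)
    have hl' : l' ∈ lin v := by
      rw [mem_lin]; intro i
      rw [map_sub, hve, sub_self]
    let l : L := ⟨l', hl'⟩
    let n := ∑ i, (b.repr l i).natAbs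
    have hn : ∀ i, (0 : ℤ) ≤ b.repr l i + n := fun i => by
      have h1 : (b.repr l i).natAbs ≤ n :=
        Finset.single_le_sum (f := fun i => (b.repr l i).natAbs) (fun _ _ => Nat.zero_le _)
          (Finset.mem_univ i)
      omega
    refine ⟨n, Finsupp.equivFunOnFinite.symm (Sum.elim (fun i => (b.repr l i + n).toNat)
      fun i => (v i q').toNat), Subtype.ext ?_⟩
    change (q' : P) + (n • f a : cone v) = g _
    rw [hg]
    simp only [Finsupp.equivFunOnFinite_symm_apply_apply, Sum.elim_inl, Sum.elim_inr,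
      AddSubmonoidClass.coe_nsmul]
    have h1 : ∑ i, (v i q').toNat • (e i : P) = ∑ i, v i q' • (e i : P) :=
      Finset.sum_congr rfl fun i _ => by
        rw [← natCast_zsmul, Int.toNat_of_nonneg (q'.2 i)]
    have h2 : ∑ i, (b.repr l i + n).toNat • (b i : P) = l' + n • g a := by
      have h3 : ∑ i, (b.repr l i + n).toNat • (b i : P) = ∑ i, (b.repr l i + n) • (b i : P) :=
        Finset.sum_congr rfl fun i _ => by
          rw [← natCast_zsmul, Int.toNat_of_nonneg (hn i)]
      have h4 : ∑ i, b.repr l i • (b i : P) = l' := by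
        have := congrArg L.subtype (b.sum_repr l)
        rw [map_sum] at this
        simp only [map_zsmul] at this
        exact this
      rw [h3, hg]
      simp only [add_smul, Finset.sum_add_distrib]
      rw [h4]
      simp [a, Finset.smul_sum]
    rw [h1, h2]
    change (q' : P) + n • (g a) = _
    simp only [l']
    abel
  -- smoothness
  have h1 : (mapDomainRingHom K f).Smooth := by
    have : Algebra.Smooth K[ι ⊕ J →₀ ℕ] K[cone v] :=
      Algebra.Smooth.of_isLocalization_Away (single a 1)
    exact this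
  have h2 : ((MvPolynomial.rename Sum.inr : MvPolynomial J K →ₐ[K] MvPolynomial (ι ⊕ J) K) :
      MvPolynomial J K →+* MvPolynomial (ι ⊕ J) K).Smooth := by
    have h3 : (MvPolynomial.C : MvPolynomial J K →+* MvPolynomial ι (MvPolynomial J K)).Smooth := by
      have : Algebra.Smooth (MvPolynomial J K) (MvPolynomial ι (MvPolynomial J K)) := {}
      rw [← MvPolynomial.algebraMap_eq]
      exact RingHom.smooth_algebraMap.2 this
    have h4 : ((MvPolynomial.rename Sum.inr : MvPolynomial J K →ₐ[K] MvPolynomial (ι ⊕ J) K) :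
      MvPolynomial J K →+* MvPolynomial (ι ⊕ J) K) =
      (MvPolynomial.sumAlgEquiv K ι J).symm.toRingEquiv.toRingHom.comp MvPolynomial.C := by
      ext i
      · simp
      · simp
    rw [h4]
    exact h3.comp (RingHom.Smooth.of_bijective (MvPolynomial.sumAlgEquiv K ι J).symm.bijective)
  have h5 : (MvPolynomial.eval₂Hom (algebraMap K K[cone v]) (fun i => single (e i) 1) :
      MvPolynomial J K →+* K[cone v]) = (mapDomainRingHom K f).comp
      ((MvPolynomial.rename Sum.inr : MvPolynomial J K →ₐ[K] MvPolynomial (ι ⊕ J) K) :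
        MvPolynomial J K →+* MvPolynomial (ι ⊕ J) K) := by
    apply MvPolynomial.ringHom_ext
    · intro r
      rw [MvPolynomial.coe_eval₂Hom, MvPolynomial.eval₂_C, RingHom.comp_apply, RingHom.coe_coe,
        MvPolynomial.rename_C]
      change single 0 r = mapDomainRingHom K f (single 0 r)
      rw [mapDomainRingHom_apply, mapDomain_single, map_zero]
    · intro i
      rw [MvPolynomial.coe_eval₂Hom, MvPolynomial.eval₂_X, RingHom.comp_apply, RingHom.coe_coe,
        MvPolynomial.rename_X]
      change _ = mapDomainRingHom K f (single (Finsupp.single (Sum.inr i) 1) 1)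
      rw [mapDomainRingHom_apply, mapDomain_single]
      congr 1
      apply Subtype.ext
      change _ = g _
      simp [g]
  rw [h5]
  exact h2.comp h1

end one

end K73.Toric
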