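import Groth.Agent.Resolve.K73.ToricAlg
import Groth.Agent.Dix.NormalLoc

/-!
# Star subdivisions of toric charts = normalised blow-ups

`v : J → P →+ ℤ`, `w = ∑ (n i / d) v i` integral on `P`, `v' = update v j w` (with `n j ≠ 0`).
Exponents `a i ∈ P` (for `n i ≠ 0`) with `v i (a i) = c i`, `v l (a i) = 0` for `l ≠ i`,
`n i * c i = N > 0`. The affine chart `χ^(a j) ≠ 0` of the normalised blow-up of `(χ^(a i))` is
`K[cone v']`.
-/

set_option autoImplicit false

universe u

open AddMonoidAlgebra Function

namespace K73.Toric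

variable {J : Type*} {P : Type*} [AddCommGroup P] [Fintype J]

/-- The data of a star subdivision. -/
structure Star (v : J → P →+ ℤ) (w : P →+ ℤ) (d : ℕ) (n : J → ℕ) (c : J → ℤ) (N : ℕ)
    (a : J → P) : Prop where
  hd : d ≠ 0
  hw : d • w = ∑ i, n i • v i
  ha : ∀ i, n i ≠ 0 → v i (a i) = c i
  ha' : ∀ i, n i ≠ 0 → ∀ l, l ≠ i → v l (a i) = 0
  hc : ∀ i, n i ≠ 0 → n i * c i = N
  hN : 0 < N

/-- For a star vector, exponents exist: `c i = mult v * ∏ n / n i`. -/
theorem exists_exponents {v : J → P →+ ℤ} {w : P →+ ℤ} {d : ℕ} (hd : d ≠ 0)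
    {n : J → ℕ} (hw : d • w = ∑ i, n i • v i) (c : J → ℤ) {N : ℕ} (hN : 0 < N)
    (hc : ∀ i, n i ≠ 0 → n i * c i = N) (hdvd : ∀ i, n i ≠ 0 → (mult v : ℤ) ∣ c i) :
    ∃ a : J → P, Star v w d n c N a := by
  classical
  have h : ∀ i, ∃ a : P, n i ≠ 0 → v i a = c i ∧ ∀ l, l ≠ i → v l a = 0 := fun i => by
    by_cases hi : n i = 0
    · exact ⟨0, fun h => absurd hi h⟩
    · obtain ⟨e, he⟩ := hdvd i hi
      obtain ⟨q, hq, hq'⟩ := exists_single v i e
      exact ⟨q, fun _ => ⟨by rw [hq, he], hq'⟩⟩
  choose a ha using h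
  exact ⟨a, hd, hw, fun i hi => (ha i hi).1, fun i hi => (ha i hi).2, hc, hN⟩

namespace Star

variable {v : J → P →+ ℤ} {w : P →+ ℤ} {d : ℕ} {n : J → ℕ} {c : J → ℤ} {N : ℕ} {a : J → P}

lemma w_apply (h : Star v w d n c N a) (q : P) : (d : ℤ) * w q = ∑ i, (n i : ℤ) * v i q := by
  have := DFunLike.congr_fun h.hw q
  simpa [AddMonoidHom.finsetSum_apply, nsmul_eq_mul] using this

lemma d_pos (h : Star v w d n c N a) : (0 : ℤ) < d := by have := h.hd; omega

lemma c_pos (h : Star v w d n c N a) {i : J} (hi : n i ≠ 0) : 0 < c i := by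
  have h1 := h.hc i hi
  have h2 : (0 : ℤ) < n i * c i := by rw [h1]; exact_mod_cast h.hN
  have h3 : (0 : ℤ) < n i := by omega
  exact (pos_iff_pos_of_mul_pos h2).1 h3

lemma w_nonneg (h : Star v w d n c N a) {q : P} (hq : q ∈ cone v) : 0 ≤ w q := by
  have h1 := h.w_apply q
  have h2 : 0 ≤ ∑ i, (n i : ℤ) * v i q := Finset.sum_nonneg fun i _ =>
    mul_nonneg (by positivity) (hq i)
  rw [← h1] at h2
  exact nonneg_of_mul_nonneg_right h2 h.d_pos

lemma w_a (h : Star v w d n c N a) {i : J} (hi : n i ≠ 0) : (d : ℤ) * w (a i) = N := by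
  rw [h.w_apply, Finset.sum_eq_single i, h.ha i hi, h.hc i hi]
  · intro l _ hl; rw [h.ha' i hi l hl, mul_zero]
  · intro h; exact absurd (Finset.mem_univ i) h

lemma a_mem (h : Star v w d n c N a) {i : J} (hi : n i ≠ 0) : a i ∈ cone v := by
  intro l
  by_cases hl : l = i
  · subst hl; rw [h.ha l hi]; exact (h.c_pos hi).le
  · rw [h.ha' i hi l hl]

section chart

variable [DecidableEq J]

lemma cone_le (h : Star v w d n c N a) (j : J) : cone v ≤ cone (update v j w) := by
  intro q hq i
  by_cases hi : i = j
  · subst hi; rw [update_self]; exact h.w_nonneg hq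
  · rw [update_of_ne hi]; exact hq i

lemma sub_mem (h : Star v w d n c N a) {i j : J} (hi : n i ≠ 0) (hj : n j ≠ 0) :
    a i - a j ∈ cone (update v j w) := by
  intro l
  by_cases hl : l = j
  · subst hl
    rw [update_self, map_sub]
    have h1 := h.w_a hi
    have h2 := h.w_a hj
    have : w (a i) = w (a l) := by
      have := h1.trans h2.symm
      exact mul_left_cancel₀ h.d_pos.ne' this
    rw [this, sub_self]
  · rw [update_of_ne hl, map_sub, h.ha' j hj l hl, sub_zero]
    exact h.a_mem hi l

/-- each element of the new cone has a multiple in `cone v + ∑ ℕ (a i - a j)` -/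
lemma exists_multiple (h : Star v w d n c N a) {j : J} (hj : n j ≠ 0) {q : P}
    (hq : q ∈ cone (update v j w)) :
    ∃ (e : J → ℕ) (q₀ : P), q₀ ∈ cone v ∧ (∀ i, n i = 0 → e i = 0) ∧ e j = 0 ∧
      N • q = q₀ + ∑ i, e i • (a i - a j) := by
  have hqi : ∀ i, i ≠ j → 0 ≤ v i q := fun i hi => by
    have := hq i; rwa [update_of_ne hi] at this
  have hqw : 0 ≤ w q := by have := hq j; rwa [update_self] at this
  let e : J → ℕ := fun i => if i = j then 0 else n i * (v i q).toNat
  have he : ∀ i, i ≠ j → (e i : ℤ) = n i * v i q := fun i hi => by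
    simp only [e, hi, if_false, Nat.cast_mul, Int.toNat_of_nonneg (hqi i hi)]
  have hej : e j = 0 := by simp [e]
  have hen : ∀ i, n i = 0 → e i = 0 := fun i hi => by simp [e, hi]
  refine ⟨e, N • q - ∑ i, e i • (a i - a j), ?_, hen, hej, by abel⟩
  intro l
  rw [map_sub, map_nsmul, map_sum, nsmul_eq_mul]
  by_cases hl : l = j
  · subst hl
    have h1 : ∑ i, v l (e i • (a i - a l)) = - (c l * ∑ i ∈ Finset.univ.erase l, (n i : ℤ) * v i q) := by
      rw [← Finset.add_sum_erase _ _ (Finset.mem_univ l), hej, zero_smul, map_zero, zero_add,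
        Finset.mul_sum, ← Finset.sum_neg_distrib]
      refine Finset.sum_congr rfl fun i hi => ?_
      have hil := Finset.ne_of_mem_erase hi
      rw [map_nsmul, nsmul_eq_mul, he i hil, map_sub, h.ha l hj]
      by_cases hni : n i = 0
      · simp [hni]
      · rw [h.ha' i hni l hil.symm]; ring
    have h2 := h.w_apply q
    rw [← Finset.add_sum_erase _ _ (Finset.mem_univ l)] at h2
    have h3 := h.hc l hj
    rw [h1]
    have h4 : (N : ℤ) * v l q - -(c l * ∑ i ∈ Finset.univ.erase l, (n i : ℤ) * v i q)
        = c l * (d * w q) := by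
      rw [h2, ← h3]; ring
    rw [h4]
    exact mul_nonneg (h.c_pos hj).le (mul_nonneg (by positivity) hqw)
  · have h1 : ∑ i, v l (e i • (a i - a j)) = if n l = 0 then 0 else N * v l q := by
      rw [Finset.sum_eq_single l]
      · rw [map_nsmul, nsmul_eq_mul, he l hl, map_sub, h.ha' j hj l hl, sub_zero]
        split_ifs with hn
        · simp [hn]
        · rw [h.ha l hn, ← h.hc l hn]; ring
      · intro i _ hi
        rw [map_nsmul, nsmul_eq_mul, map_sub, h.ha' j hj l hl, sub_zero]
        by_cases hni : n i = 0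
        · simp [hen i hni]
        · rw [h.ha' i hni l hi.symm, mul_zero]
      · intro h; exact absurd (Finset.mem_univ l) h
    rw [h1]
    split_ifs
    · rw [sub_zero]; exact mul_nonneg (by positivity) (hqi l hl)
    · rw [sub_self]

variable {K : Type*} [CommRing K]

/-- `K[Q']` is generated over a subring containing `K[Q]`... integrality criterion -/
lemma isIntegral_of_monomials {Q : AddSubmonoid P} {T : Type*} [CommRing T]
    (S : Subring T) (g : K[Q] →+* T) (hK : ∀ r : K, g (single 0 r) ∈ S)
    (hq : ∀ q : Q, IsIntegral S (g (single q 1))) (z : K[Q]) : IsIntegral S (g z) := by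
  induction z using AddMonoidAlgebra.induction_linear with
  | zero => rw [map_zero]; exact isIntegral_zero
  | add x y hx hy => rw [map_add]; exact hx.add hy
  | single q r =>
    have : (single q r : K[Q]) = single 0 r * single q 1 := by
      rw [single_mul_single, zero_add, mul_one]
    rw [this, map_mul]
    exact (isIntegral_algebraMap (R := S) (x := (⟨g (single 0 r), hK r⟩ : S))).mul (hq q)

/-- images of monomials of the new cone are integral over the subring generated by the old cone
and the quotients `χ^(a i - a j)` -/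
theorem isIntegral_chart (h : Star v w d n c N a) {j : J} (hj : n j ≠ 0) {T : Type*} [CommRing T]
    (g : K[cone (update v j w)] →+* T) (S : Subring T)
    (hS : ∀ x, g (incl K (h.cone_le j) x) ∈ S)
    (hS' : ∀ i (hi : n i ≠ 0), g (single ⟨a i - a j, h.sub_mem hi hj⟩ 1) ∈ S)
    (z : K[cone (update v j w)]) : IsIntegral S (g z) := by
  refine isIntegral_of_monomials S g (fun r => ?_) (fun q => ?_) z
  · have := hS (single 0 r)
    rwa [incl, mapDomainRingHom_apply, mapDomain_single, map_zero] at this
  · obtain ⟨e, q₀, hq₀, he, -, hq⟩ := h.exists_multiple hj q.2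
    -- `χ^(N q) ∈ S`
    have hmem : (g (single q 1)) ^ N ∈ S := by
      rw [← map_pow, single_pow, one_pow]
      have hf : ∀ i, ∃ b : cone (update v j w), (b : P) = e i • (a i - a j) ∧
          g (single b 1) ∈ S := fun i => by
        by_cases hi : n i = 0
        · refine ⟨0, by rw [he i hi, zero_smul]; rfl, ?_⟩
          have : (single 0 1 : K[cone (update v j w)]) = 1 := rfl
          rw [this, map_one]; exact S.one_mem
        · refine ⟨e i • ⟨a i - a j, h.sub_mem hi hj⟩, rfl, ?_⟩
          have : (single (e i • (⟨a i - a j, h.sub_mem hi hj⟩ : cone (update v j w))) 1 :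
            K[cone (update v j w)]) = single ⟨a i - a j, h.sub_mem hi hj⟩ 1 ^ e i := by
            rw [single_pow, one_pow]
          rw [this, map_pow]
          exact S.pow_mem (hS' i hi) _
      choose b hb hb' using hf
      have h1 : N • q = (⟨q₀, h.cone_le j hq₀⟩ : cone (update v j w)) + ∑ i, b i := by
        apply Subtype.ext
        rw [AddSubmonoidClass.coe_nsmul, hq, AddSubmonoid.coe_add, AddSubmonoid.coe_finsetSum]
        simp only [hb]
      have h2 : (single (N • q) 1 : K[cone (update v j w)]) =
          incl K (h.cone_le j) (single ⟨q₀, hq₀⟩ 1) * ∏ i, single (b i) 1 := by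
        rw [incl, mapDomainRingHom_apply, mapDomain_single, h1]
        have : ∀ s : Finset J, (∏ i ∈ s, single (b i) (1 : K) : K[cone (update v j w)])
            = single (∑ i ∈ s, b i) 1 := fun s => by
          classical
          induction s using Finset.induction_on with
          | empty => rfl
          | insert i s hi ih =>
            rw [Finset.prod_insert hi, Finset.sum_insert hi, ih, single_mul_single, one_mul]
        rw [this, single_mul_single, one_mul]
        rfl
      rw [h2, map_mul, map_prod]
      exact S.mul_mem (hS _) (S.prod_mem fun i _ => hb' i)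
    exact IsIntegral.of_pow h.hN (isIntegral_algebraMap (R := S) (x := (⟨_, hmem⟩ : S)))

end chart

end Star

/-! ### Base change of `K[Q] → K[Q']` to a flat algebra -/

section base
variable {J P : Type*} [AddCommGroup P] {K : Type*} [CommRing K] {Q Q' : AddSubmonoid P}

/-- the image of a monomial in `R` -/
noncomputable def mon (K : Type*) [CommRing K] (R : Type*) [CommRing R] {Q : AddSubmonoid P}
    [Algebra K[Q] R] (q : P) (hq : q ∈ Q) : R := algebraMap K[Q] R (single ⟨q, hq⟩ 1)

section
variable {R : Type*} [CommRing R] [Algebra K[Q] R]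

lemma mon_add {q q' : P} (hq : q ∈ Q) (hq' : q' ∈ Q) :
    mon K R (q + q') (add_mem hq hq') = mon K R q hq * mon K R q' hq' := by
  rw [mon, mon, mon, ← map_mul, single_mul_single, one_mul]
  rfl

lemma mon_zero : mon K R (0 : P) Q.zero_mem = 1 := by
  rw [mon, show (single ⟨0, Q.zero_mem⟩ 1 : K[Q]) = 1 from rfl, map_one]

lemma mon_congr {q q' : P} (h : q = q') (hq : q ∈ Q) : mon K R q hq = mon K R q' (h ▸ hq) := by
  subst h; rfl

lemma mon_nsmul {q : P} (hq : q ∈ Q) (n : ℕ) :
    mon K R (n • q) (nsmul_mem hq n) = mon K R q hq ^ n := by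
  induction n with
  | zero => rw [pow_zero, mon_congr (zero_nsmul q), mon_zero]
  | succ n ih => rw [pow_succ, ← ih, ← mon_add]; exact mon_congr (succ_nsmul q n) _

/-- monomials are regular on flat algebras -/
lemma mon_mem_nonZeroDivisors [Module.Flat K[Q] R] {q : P} (hq : q ∈ Q) :
    mon K R q hq ∈ nonZeroDivisors R := by
  have h1 : IsSMulRegular K[Q] (single (⟨q, hq⟩ : Q) (1 : K)) := by
    intro x y hxy
    simp only [smul_eq_mul] at hxy
    ext b
    have h2 := congrArg (fun z => z.coeff (⟨q, hq⟩ + b)) hxy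
    simpa [coeff_single_mul_add] using h2
  have h3 := h1.of_flat (S := R)
  rw [mem_nonZeroDivisors_iff]
  constructor
  · intro z hz
    exact h3 (by simpa [mon, Algebra.smul_def] using hz)
  · intro z hz
    refine h3 ?_
    rw [mul_comm] at hz
    simpa [mon, Algebra.smul_def] using hz

end

variable {R T : Type*} [CommRing R] [CommRing T]
  [Algebra K[Q] K[Q']] [Algebra K[Q] R] [Algebra K[Q] T]
  [Algebra K[Q'] T] [Algebra R T]
  [IsScalarTower K[Q] R T] [IsScalarTower K[Q] K[Q'] T]

lemma algebraMap_mon {hle : Q ≤ Q'} (halg : algebraMap K[Q] K[Q'] = incl K hle) {q : P}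
    (hq : q ∈ Q) : algebraMap R T (mon K R q hq) = mon K T q (hle hq) := by
  rw [mon, mon, ← IsScalarTower.algebraMap_apply, IsScalarTower.algebraMap_apply K[Q] K[Q'] T, halg]
  congr 1
  rw [incl, mapDomainRingHom_apply, mapDomain_single]
  rfl

lemma algebraMap_const {hle : Q ≤ Q'} (halg : algebraMap K[Q] K[Q'] = incl K hle) (k : K) :
    algebraMap R T (algebraMap K[Q] R (single 0 k)) = algebraMap K[Q'] T (single 0 k) := by
  rw [← IsScalarTower.algebraMap_apply, IsScalarTower.algebraMap_apply K[Q] K[Q'] T, halg,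
    incl, mapDomainRingHom_apply, mapDomain_single, map_zero]

variable [hpo : Algebra.IsPushout K[Q] R K[Q'] T]

include hpo in
/-- surjectivity of `R ⊗ K[Q'] → T`, in the form of an induction principle -/
lemma induction_pushout {hle : Q ≤ Q'} (halg : algebraMap K[Q] K[Q'] = incl K hle)
    {p : T → Prop} (hR : ∀ (r : R) (q : P) (hq : q ∈ Q'), p (algebraMap R T r * mon K T q hq))
    (hadd : ∀ x y, p x → p y → p (x + y)) (z : T) : p z := by
  have h0 : p 0 := by simpa using hR 0 0 Q'.zero_mem
  let e := Algebra.IsPushout.equiv K[Q] R K[Q'] T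
  obtain ⟨z, rfl⟩ := e.surjective z
  induction z using TensorProduct.induction_on with
  | zero => rw [map_zero]; exact h0
  | add x y hx hy => rw [map_add]; exact hadd _ _ hx hy
  | tmul r z =>
    rw [Algebra.IsPushout.equiv_tmul]
    induction z using AddMonoidAlgebra.induction_linear with
    | zero => rw [map_zero, mul_zero]; exact h0
    | add x y hx hy => rw [map_add, mul_add]; exact hadd _ _ hx hy
    | single q k =>
      have : (single q k : K[Q']) = single 0 k * single q 1 := by
        rw [single_mul_single, zero_add, mul_one]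
      rw [this, map_mul, ← algebraMap_const (R := R) halg k, ← mul_assoc, ← map_mul]
      exact hR _ q.1 q.2

include hpo in
lemma algebraMap_injective_of_flat {hle : Q ≤ Q'} (halg : algebraMap K[Q] K[Q'] = incl K hle)
    [Module.Flat K[Q] R] : Injective (algebraMap R T) := by
  let e := Algebra.IsPushout.equiv K[Q] R K[Q'] T
  let f : K[Q] →ₗ[K[Q]] K[Q'] := Algebra.linearMap K[Q] K[Q']
  have hf : Injective f := by
    intro x y hxy
    apply incl_injective K hle
    rw [← halg]; exact hxy
  have h1 := Module.Flat.lTensor_preserves_injective_linearMap (M := R) f hf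
  have h2 : Injective fun r : R => e (f.lTensor R (r ⊗ₜ 1)) := by
    refine e.injective.comp (h1.comp ?_)
    exact (TensorProduct.rid K[Q] R).symm.injective
  intro x y hxy
  apply h2
  simpa [f, e, Algebra.IsPushout.equiv_tmul] using hxy

include hpo in
lemma flat_pushout [Module.Flat K[Q] R] : Module.Flat K[Q'] T := by
  have : Algebra.IsPushout K[Q] K[Q'] R T := hpo.symm
  let e := Algebra.IsPushout.equiv K[Q] K[Q'] R T
  exact Module.Flat.of_linearEquiv e.symm.toLinearEquiv

include hpo in
lemma smooth_pushout [Algebra.Smooth K[Q] R] : Algebra.Smooth K[Q'] T := by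
  have : Algebra.IsPushout K[Q] K[Q'] R T := hpo.symm
  let e := Algebra.IsPushout.equiv K[Q] K[Q'] R T
  exact Algebra.Smooth.of_equiv e

include hpo in
/-- `R → T` becomes an isomorphism after inverting `χ^a` -/
theorem isLocalization_pushout {hle : Q ≤ Q'} (halg : algebraMap K[Q] K[Q'] = incl K hle)
    [Module.Flat K[Q] R] {a : P} (ha : a ∈ Q) (h : ∀ q' ∈ Q', ∃ n : ℕ, q' + n • a ∈ Q)
    (L : Type*) [CommRing L] [Algebra R L] [Algebra T L] [IsScalarTower R T L]
    [hL : IsLocalization.Away (mon K T a (hle ha)) L] : IsLocalization.Away (mon K R a ha) L := by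
  have hx : algebraMap R T (mon K R a ha) = mon K T a (hle ha) := algebraMap_mon halg ha
  have key : ∀ z : T, ∃ (m : ℕ) (r : R), mon K T a (hle ha) ^ m * z = algebraMap R T r := by
    intro z
    refine induction_pushout (R := R) halg (p := fun z => ∃ (m : ℕ) (r : R),
      mon K T a (hle ha) ^ m * z = algebraMap R T r) ?_ ?_ z
    · intro r q hq
      obtain ⟨m, hm⟩ := h q hq
      refine ⟨m, r * mon K R _ hm, ?_⟩
      rw [map_mul, algebraMap_mon halg, ← mon_nsmul, mul_left_comm, ← mon_add]
      congr 1
      exact mon_congr (add_comm _ _) _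
    · intro x y hx' hy'
      obtain ⟨m₁, r₁, h₁⟩ := hx'
      obtain ⟨m₂, r₂, h₂⟩ := hy'
      refine ⟨m₁ + m₂, r₁ * mon K R a ha ^ m₂ + r₂ * mon K R a ha ^ m₁, ?_⟩
      rw [map_add, map_mul, map_mul, ← h₁, ← h₂, map_pow, map_pow, hx, pow_add]
      ring
  refine ⟨?_, ?_, ?_⟩
  · rintro ⟨_, m, rfl⟩
    rw [IsScalarTower.algebraMap_apply R T L, map_pow, hx]
    exact (IsLocalization.map_units L (⟨_, m, rfl⟩ : Submonoid.powers (mon K T a (hle ha))))
  · intro z
    obtain ⟨⟨t, ⟨_, m, rfl⟩⟩, ht⟩ := IsLocalization.surj (Submonoid.powers (mon K T a (hle ha))) z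
    obtain ⟨m', r, hr⟩ := key t
    refine ⟨(r, ⟨_, m + m', rfl⟩), ?_⟩
    change z * algebraMap R L (mon K R a ha ^ (m + m')) = algebraMap R L r
    rw [IsScalarTower.algebraMap_apply R T L, IsScalarTower.algebraMap_apply R T L, ← hr, map_mul,
      ← ht, map_pow, hx, map_pow, map_pow, pow_add]
    change z * _ = _ * (z * algebraMap T L (mon K T a (hle ha) ^ m))
    rw [map_pow]; ring
  · intro x y hxy
    rw [IsScalarTower.algebraMap_apply R T L, IsScalarTower.algebraMap_apply R T L] at hxy
    obtain ⟨⟨_, m, rfl⟩, hm⟩ := IsLocalization.exists_of_eq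
      (M := Submonoid.powers (mon K T a (hle ha))) hxy
    refine ⟨⟨_, m, rfl⟩, ?_⟩
    apply algebraMap_injective_of_flat (T := T) halg
    simp only [map_mul, map_pow, hx]
    exact hm

end base

/-! ### The chart of the normalised blow-up -/

namespace Star

section main
variable {v : J → P →+ ℤ} {w : P →+ ℤ} {d : ℕ} {n : J → ℕ} {c : J → ℤ} {N : ℕ} {a : J → P}
  [DecidableEq J]

lemma exists_add_mem (h : Star v w d n c N a) {j : J} (hj : n j ≠ 0) {q : P}
    (hq : q ∈ cone (update v j w)) : ∃ m : ℕ, q + m • a j ∈ cone v := by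
  refine ⟨(v j q).natAbs, fun l => ?_⟩
  rw [map_add, map_nsmul, nsmul_eq_mul]
  by_cases hl : l = j
  · subst hl
    rw [h.ha l hj]
    have h1 := h.c_pos hj
    have h2 : ((v l q).natAbs : ℤ) * 1 ≤ (v l q).natAbs * c l :=
      mul_le_mul_of_nonneg_left (by omega) (by positivity)
    omega
  · rw [h.ha' j hj l hl, mul_zero, add_zero]
    have := hq l
    rwa [update_of_ne hl] at this

variable {K : Type*} [CommRing K] {R T : Type*} [CommRing R] [CommRing T] {j : J}
  [Algebra K[cone v] K[cone (update v j w)]] [Algebra K[cone v] R] [Algebra K[cone v] T]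
  [Algebra K[cone (update v j w)] T] [Algebra R T]
  [IsScalarTower K[cone v] R T] [IsScalarTower K[cone v] K[cone (update v j w)] T]

/-- the generator of the blown up ideal -/
lemma mon_eq_mul (h : Star v w d n c N a) (hj : n j ≠ 0)
    (halg : algebraMap K[cone v] K[cone (update v j w)] = incl K (h.cone_le j)) {i : J}
    (hi : n i ≠ 0) : algebraMap R T (mon K R (a i) (h.a_mem hi)) =
      algebraMap R T (mon K R (a j) (h.a_mem hj)) * mon K T (a i - a j) (h.sub_mem hi hj) := by
  rw [algebraMap_mon halg, algebraMap_mon halg, ← mon_add]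
  exact mon_congr (by abel) _

lemma mon_mem_nonZeroDivisors' (h : Star v w d n c N a) (hj : n j ≠ 0)
    (halg : algebraMap K[cone v] K[cone (update v j w)] = incl K (h.cone_le j))
    [hpo : Algebra.IsPushout K[cone v] R K[cone (update v j w)] T] [Module.Flat K[cone v] R] :
    algebraMap R T (mon K R (a j) (h.a_mem hj)) ∈ nonZeroDivisors T := by
  have := flat_pushout (hpo := hpo)
  rw [algebraMap_mon halg]
  exact mon_mem_nonZeroDivisors _

/-- `T` has the same localisation at `χ^(a j)` as `R` -/
theorem isLocalization_away (h : Star v w d n c N a) (hj : n j ≠ 0)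
    (halg : algebraMap K[cone v] K[cone (update v j w)] = incl K (h.cone_le j))
    [hpo : Algebra.IsPushout K[cone v] R K[cone (update v j w)] T] [Module.Flat K[cone v] R]
    (L : Type*) [CommRing L] [Algebra R L] [Algebra T L] [IsScalarTower R T L]
    [hL : IsLocalization.Away (algebraMap R T (mon K R (a j) (h.a_mem hj))) L] :
    IsLocalization.Away (mon K R (a j) (h.a_mem hj)) L := by
  rw [algebraMap_mon halg] at hL
  exact isLocalization_pushout (R := R) (T := T) halg (h.a_mem hj)
    (fun q' hq' => h.exists_add_mem hj hq') L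

/-- `T` is integral over the subring generated by `R` and the quotients `χ^(a i) / χ^(a j)` -/
theorem isIntegral (h : Star v w d n c N a) (hj : n j ≠ 0)
    (halg : algebraMap K[cone v] K[cone (update v j w)] = incl K (h.cone_le j))
    [hpo : Algebra.IsPushout K[cone v] R K[cone (update v j w)] T] (S : Subring T)
    (hS : ∀ r, algebraMap R T r ∈ S)
    (hS' : ∀ i (hi : n i ≠ 0), mon K T (a i - a j) (h.sub_mem hi hj) ∈ S) :
    Algebra.IsIntegral S T := by
  constructor
  intro z
  refine induction_pushout (R := R) halg (p := fun z => IsIntegral S z) ?_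
    (fun x y hx hy => hx.add hy) z
  intro r q hq
  refine (isIntegral_algebraMap (R := S) (x := (⟨_, hS r⟩ : S))).mul ?_
  refine h.isIntegral_chart hj (algebraMap K[cone (update v j w)] T) S (fun x => ?_) hS' _
  rw [← halg, ← IsScalarTower.algebraMap_apply, IsScalarTower.algebraMap_apply K[cone v] R T]
  exact hS _

/-- `T` is a finite module over the subring generated by `R` and the `χ^(a i) / χ^(a j)` -/
theorem finite (h : Star v w d n c N a) (hj : n j ≠ 0) [Module.Finite ℤ P] (hv : mult v ≠ 0)
    (halg : algebraMap K[cone v] K[cone (update v j w)] = incl K (h.cone_le j))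
    [hpo : Algebra.IsPushout K[cone v] R K[cone (update v j w)] T] (S : Subalgebra R T)
    (hS' : ∀ i (hi : n i ≠ 0), mon K T (a i - a j) (h.sub_mem hi hj) ∈ S) :
    Module.Finite S T := by
  have h1 : Algebra.IsIntegral S T :=
    h.isIntegral hj halg S.toSubring (fun r => S.algebraMap_mem r) hS'
  have h2 : mult (update v j w) ≠ 0 := mult_update_ne_zero h.hd hj h.hw hv
  have h3 : Algebra.FiniteType K K[cone (update v j w)] := finiteType_cone K h2
  have h4 : IsScalarTower K K[cone v] K[cone (update v j w)] := IsScalarTower.of_algebraMap_eq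
    fun k => by
      rw [halg]
      change single 0 k = incl K (h.cone_le j) (single 0 k)
      rw [incl, mapDomainRingHom_apply, mapDomain_single, map_zero]
  have h5 : Algebra.FiniteType K[cone v] K[cone (update v j w)] :=
    Algebra.FiniteType.of_restrictScalars_finiteType K _ _
  have h6 : Algebra.FiniteType R T := by
    have := Algebra.FiniteType.baseChange (R := K[cone v]) (A := K[cone (update v j w)]) R
    exact this.equiv (Algebra.IsPushout.equiv K[cone v] R K[cone (update v j w)] T)
  have h7 : Algebra.FiniteType S T := Algebra.FiniteType.of_restrictScalars_finiteType R S T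
  exact Algebra.IsIntegral.finite

end main

section normal
universe uK uP

variable {P : Type uP} [AddCommGroup P] {v : J → P →+ ℤ} {w : P →+ ℤ} {d : ℕ} {n : J → ℕ}
  {c : J → ℤ} {N : ℕ} {a : J → P} [DecidableEq J]

variable {K : Type uK} [Field K] [Module.Finite ℤ P] [Module.Free ℤ P]
  {R T : Type (max uK uP)} [CommRing R] [CommRing T] {j : J}
  [Algebra K[cone v] K[cone (update v j w)]] [Algebra K[cone v] R] [Algebra K[cone v] T]
  [Algebra K[cone (update v j w)] T] [Algebra R T]
  [IsScalarTower K[cone v] R T] [IsScalarTower K[cone v] K[cone (update v j w)] T]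

omit [Fintype J] [DecidableEq J] in
theorem _root_.K73.Toric.isNormalRing_of_smooth (K : Type uK) [Field K] (v : J → P →+ ℤ)
    (T : Type (max uK uP)) [CommRing T] [Algebra K[cone v] T] [Algebra.Smooth K[cone v] T] :
    EGA4.IsNormalRing T := by
  have := isIntegrallyClosed_cone K v
  exact Groth.Agent.Dix.NormalLoc.isNormalRing_of_smooth K[cone v] T

omit [Fintype J] [DecidableEq J] in
theorem _root_.K73.Toric.isIntegrallyClosed_of_isNormalRing (T : Type*) [CommRing T] [IsDomain T]
    (hT : EGA4.IsNormalRing T) : IsIntegrallyClosed T :=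
  .of_localization_maximal fun p _ => (hT p).2

/-- for `R` a domain smooth over the toric ring, the chart is a normal domain -/
theorem isDomain_isIntegrallyClosed (h : Star v w d n c N a) (hj : n j ≠ 0)
    (halg : algebraMap K[cone v] K[cone (update v j w)] = incl K (h.cone_le j))
    [hpo : Algebra.IsPushout K[cone v] R K[cone (update v j w)] T] [Algebra.Smooth K[cone v] R]
    [IsDomain R] : IsDomain T ∧ IsIntegrallyClosed T := by
  have h1 : IsDomain T := by
    let x := algebraMap R T (mon K R (a j) (h.a_mem hj))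
    have hx : x ∈ nonZeroDivisors T := h.mon_mem_nonZeroDivisors' hj halg
    let L := Localization.Away x
    have h1 : IsLocalization.Away (mon K R (a j) (h.a_mem hj)) L := 
      h.isLocalization_away (R := R) (T := T) hj halg L
    have h2 : Injective (algebraMap T L) :=
      IsLocalization.injective L (Submonoid.powers_le.2 hx)
    have h3 : mon K R (a j) (h.a_mem hj) ≠ 0 :=
      nonZeroDivisors.ne_zero (mon_mem_nonZeroDivisors (h.a_mem hj))
    have h4 : IsDomain L := IsLocalization.isDomain_of_le_nonZeroDivisors (R := R) L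
      (powers_le_nonZeroDivisors_of_noZeroDivisors h3)
    exact h2.isDomain _
  have h2 : Algebra.Smooth K[cone (update v j w)] T := smooth_pushout (hpo := hpo)
  exact ⟨h1, isIntegrallyClosed_of_isNormalRing T (isNormalRing_of_smooth K (update v j w) T)⟩

end normal

end Star

end K73.Toric
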